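import Cfsg.Agent.GL2Char.Table

/-!
# Counting lemmas and the degree classification for `GL₂`
-/

set_option autoImplicit false

namespace Cfsg.Agent.GL2Char

open Cfsg Cfsg.Agent.CharLib
open scoped ComplexConjugate

theorem card_range_two_to_one {A B : Type*} [Finite A] (f : A → B) (σ : A → A)
    (hσ : ∀ a, σ a ≠ a) (hf : ∀ a a', f a' = f a ↔ a' = a ∨ a' = σ a) :
    2 * Nat.card (Set.range f) = Nat.card A := by
  classical
  have := Fintype.ofFinite A
  rw [Nat.card_eq_fintype_card (α := A), ← Finset.card_univ,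
    Finset.card_eq_sum_card_image f Finset.univ, Finset.sum_congr rfl (g := fun _ => 2)]
  · rw [Finset.sum_const, smul_eq_mul, mul_comm, Nat.card_eq_card_toFinset, Set.toFinset_range]
  · intro b hb
    obtain ⟨a, -, rfl⟩ := Finset.mem_image.mp hb
    rw [← Finset.card_pair (hσ a).symm]
    congr 1
    ext a'
    simp [hf]

theorem card_irr_eq_card_range {G : Type*} [Group G] {A : Type*} (f : A → G → ℂ)
    (P : (G → ℂ) → Prop) (h : ∀ χ, (IsIrrCharacter G χ ∧ P χ) ↔ ∃ a, χ = f a) :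
    Nat.card {χ : IrrCharacter G // P χ} = Nat.card (Set.range f) := by
  refine Nat.card_congr
    { toFun := fun χ => ⟨χ.1.1, by
        obtain ⟨a, ha⟩ := (h χ.1.1).mp ⟨χ.1.2, χ.2⟩
        exact ⟨a, ha.symm⟩⟩
      invFun := fun χ => ⟨⟨χ.1, ((h χ.1).mpr (by
        obtain ⟨a, ha⟩ := χ.2
        exact ⟨a, ha.symm⟩)).1⟩, ((h χ.1).mpr (by
        obtain ⟨a, ha⟩ := χ.2
        exact ⟨a, ha.symm⟩)).2⟩
      left_inv := fun χ => rfl
      right_inv := fun χ => rfl }

theorem card_subtype_not {A : Type*} [Finite A] (P : A → Prop) :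
    Nat.card {a // ¬ P a} = Nat.card A - Nat.card {a // P a} := by
  classical
  have := Fintype.ofFinite A
  simp only [Nat.card_eq_fintype_card, Fintype.card_subtype_compl]

theorem card_offDiag (A : Type*) [Finite A] :
    Nat.card {p : A × A // p.1 ≠ p.2} = Nat.card A * (Nat.card A - 1) := by
  rw [card_subtype_not (fun p : A × A => p.1 = p.2), Nat.card_prod]
  have : Nat.card {p : A × A // p.1 = p.2} = Nat.card A :=
    Nat.card_congr
      { toFun := fun p => p.1.1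
        invFun := fun a => ⟨(a, a), rfl⟩
        left_inv := fun ⟨⟨a, b⟩, h⟩ => by cases h; rfl
        right_inv := fun _ => rfl }
  rw [this, Nat.mul_sub_one]

variable {F K : Type*} [Field F] [Fintype F] [DecidableEq F] [Field K] [Fintype K] [DecidableEq K]
  [Algebra F K] [hK : Fact (Module.finrank F K = 2)]

local notation "q" => Fintype.card F

omit [DecidableEq F] in
theorem q_ne_one : (q : ℂ) ≠ 1 := sub_ne_zero.mp q_sub_one_ne

theorem eq_st_of_degree {χ : GL2 F → ℂ} (hχ : IsIrrCharacter _ χ) (h : χ 1 = q) :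
    ∃ α, χ = st α := by
  obtain ⟨K, _, _, _, _, _⟩ := exists_quad F
  rcases (isIrr_GL2_iff K χ).mp hχ with ⟨α, rfl⟩ | h1 | ⟨α, β, -, rfl⟩ | ⟨θ, -, rfl⟩
  · rw [lin_one] at h; exact absurd h.symm q_ne_one
  · exact h1
  · rw [ps_one] at h; simp at h
  · rw [cusp_one] at h; simp [sub_eq_self] at h

theorem eq_ps_of_degree {χ : GL2 F → ℂ} (hχ : IsIrrCharacter _ χ) (h : χ 1 = q + 1) :
    ∃ α β, α ≠ β ∧ χ = ps α β := by
  obtain ⟨K, _, _, _, _, _⟩ := exists_quad F
  rcases (isIrr_GL2_iff K χ).mp hχ with ⟨α, rfl⟩ | ⟨α, rfl⟩ | h1 | ⟨θ, -, rfl⟩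
  · rw [lin_one] at h; simp at h
  · rw [st_one] at h; simp at h
  · exact h1
  · rw [cusp_one] at h
    exfalso
    have : (2 : ℂ) = 0 := by linear_combination -h
    exact two_ne_zero this

variable (K) in
theorem eq_cusp_of_degree {χ : GL2 F → ℂ} (hχ : IsIrrCharacter _ χ) (h : χ 1 = q - 1) :
    (q = 2 ∧ ∃ α, χ = lin α) ∨ ∃ θ : MulChar K ℂ, θ ^ q ≠ θ ∧ χ = cusp F θ := by
  rcases (isIrr_GL2_iff K χ).mp hχ with ⟨α, rfl⟩ | ⟨α, rfl⟩ | ⟨α, β, -, rfl⟩ | h1
  · rw [lin_one] at h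
    left
    refine ⟨?_, α, rfl⟩
    have : (q : ℂ) = 2 := by linear_combination -h
    exact_mod_cast this
  · rw [st_one] at h; simp [eq_sub_iff_add_eq] at h
  · rw [ps_one] at h
    exfalso
    have : (2 : ℂ) = 0 := by linear_combination h
    exact two_ne_zero this
  · exact Or.inr h1

theorem eq_lin_of_degree (hq : q ≠ 2) {χ : GL2 F → ℂ} (hχ : IsIrrCharacter _ χ) (h : χ 1 = 1) :
    ∃ α, χ = lin α := by
  obtain ⟨K, _, _, _, _, _⟩ := exists_quad F
  rcases (isIrr_GL2_iff K χ).mp hχ with h1 | ⟨α, rfl⟩ | ⟨α, β, -, rfl⟩ | ⟨θ, -, rfl⟩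
  · exact h1
  · rw [st_one] at h; exact absurd h q_ne_one
  · rw [ps_one] at h; simp at h
  · rw [cusp_one] at h
    exfalso
    have : (q : ℂ) = 2 := by linear_combination h
    exact hq (by exact_mod_cast this)

omit [Fintype F] [DecidableEq F] in
theorem diag_trace_det {M : Mat F} (h : M 1 0 = 0) :
    M.trace = M 0 0 + M 1 1 ∧ M.det = M 0 0 * M 1 1 := by
  rw [Matrix.trace_fin_two, Matrix.det_fin_two, h]
  simp

end Cfsg.Agent.GL2Char
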