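import Cfsg.Agent.GL2Char.SLTable

/-!
# The characters of degree `(q ± 1) / 2` of `SL₂`, and the classification by degree
-/

set_option autoImplicit false

namespace Cfsg.Agent.GL2Char

open Cfsg Cfsg.Agent.CharLib
open Cfsg.Agent.SL2 (upT)
open scoped ComplexConjugate

attribute [local simp] MulChar.map_zero

variable {F K : Type*} [Field F] [Fintype F] [DecidableEq F] [Field K] [Fintype K] [DecidableEq K]
  [Algebra F K] [hK : Fact (Module.finrank F K = 2)]

local notation "q" => Fintype.card F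

/-- Conjugation of an element of `SL₂` by an element of `GL₂`. -/
def cj (x : GL2 F) (a : SL2 F) : SL2 F :=
  ⟨((x * Matrix.SpecialLinearGroup.toGL a * x⁻¹ : GL2 F) : Mat F), by
    rw [← det_eq_of_isConj (isConj_iff.mpr ⟨x, rfl⟩)]
    exact a.det_coe⟩

omit [Fintype F] [DecidableEq F] in
theorem toGL_cj (x : GL2 F) (a : SL2 F) :
    Matrix.SpecialLinearGroup.toGL (cj x a) = x * Matrix.SpecialLinearGroup.toGL a * x⁻¹ :=
  Units.ext rfl

omit [Fintype F] [DecidableEq F] in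
theorem trace_cj (x : GL2 F) (a : SL2 F) : (cj x a : Mat F).trace = (a : Mat F).trace :=
  (trace_eq_of_isConj (isConj_iff.mpr ⟨x, rfl⟩)).symm

omit [DecidableEq F] in
theorem irr_neg {χ : SL2 F → ℂ} (hχ : IsIrrCharacter _ χ) (g : SL2 F) :
    χ 1 * χ (-g) = χ (-1) * χ g := by
  have := irr_central hχ (Cfsg.Agent.SL2.sl_mem_center_iff'.mpr (Or.inr rfl)) g
  rwa [neg_one_mul] at this

omit [DecidableEq F] in
theorem irr_neg_one {χ : SL2 F → ℂ} (hχ : IsIrrCharacter _ χ) :
    χ (-1) = χ 1 ∨ χ (-1) = -χ 1 := by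
  have := irr_neg hχ (-1)
  rw [neg_neg] at this
  exact mul_self_eq_mul_self_iff.mp this.symm

section halves

variable {Φ χ χ' : SL2 F → ℂ}

omit [Fintype F] [DecidableEq F] in
theorem HalfPair.central (h : HalfPair Φ χ χ') {a : SL2 F} (ha : IsSc (a : Mat F)) :
    χ' a = χ a := by
  obtain ⟨x, hx⟩ := h.cnj
  exact hx a a (eq_of_isConj_of_isSc ha (isConj_iff.mpr ⟨x, rfl⟩))

omit [DecidableEq F] in
theorem HalfPair.semisimple (h : HalfPair Φ χ χ') {a : SL2 F} (ha : (a : Mat F).trace ^ 2 ≠ 4) :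
    χ' a = χ a := by
  obtain ⟨x, hx⟩ := h.cnj
  rw [← hx a (cj x a) (toGL_cj x a)]
  exact classFun_of_isConj (isChar_classFun (isChar_of_irr h.irr'))
    (Cfsg.Agent.SL2.sl_isConj_of_trace ha (trace_cj x a).symm)

omit [Fintype F] [DecidableEq F] in
theorem HalfPair.two_mul (h : HalfPair Φ χ χ') {a : SL2 F} (ha : χ' a = χ a) :
    2 * χ a = Φ a := by
  rw [h.eq, Pi.add_apply, ha, _root_.two_mul]

omit [Fintype F] [DecidableEq F] in
theorem HalfPair.degree (h : HalfPair Φ χ χ') : 2 * χ 1 = Φ 1 :=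
  h.two_mul (h.central (by simp [IsSc]))

omit [DecidableEq F] in
theorem HalfPair.neg (h : HalfPair Φ χ χ') :
    ∃ ε : ℂ, (ε = 1 ∨ ε = -1) ∧ χ (-1) = ε * χ 1 ∧
      ∀ g, χ (-g) = ε * χ g ∧ χ' (-g) = ε * χ' g := by
  have h1 : χ' 1 = χ 1 := h.central (by simp [IsSc])
  have h2 : χ' (-1) = χ (-1) := h.central (by simp [IsSc])
  have h3 := isIrr_one_ne_zero h.irr
  have key : ∀ ε : ℂ, χ (-1) = ε * χ 1 → ∀ g, χ (-g) = ε * χ g ∧ χ' (-g) = ε * χ' g := by
    intro ε hε g
    have e1 := irr_neg h.irr g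
    have e2 := irr_neg h.irr' g
    rw [h1, h2] at e2
    rw [hε] at e1 e2
    exact ⟨mul_left_cancel₀ h3 (by rw [e1]; ring), mul_left_cancel₀ h3 (by rw [e2]; ring)⟩
  rcases irr_neg_one h.irr with h4 | h4
  · exact ⟨1, Or.inl rfl, by rw [h4, one_mul], key 1 (by rw [h4, one_mul])⟩
  · exact ⟨-1, Or.inr rfl, by rw [h4, neg_one_mul], key (-1) (by rw [h4, neg_one_mul])⟩

omit [DecidableEq F] [Fintype F] in
/-- Every element is central, semisimple, or up to sign conjugate to a transvection. -/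
theorem sl_cases (g : SL2 F) : IsSc (g : Mat F) ∨ (g : Mat F).trace ^ 2 ≠ 4 ∨
    ∃ b : F, b ≠ 0 ∧ (IsConj g (upT b) ∨ IsConj g (-upT b)) := by
  by_cases h1 : IsSc (g : Mat F)
  · exact Or.inl h1
  by_cases h2 : (g : Mat F).trace ^ 2 = 4
  · right; right
    rcases Cfsg.Agent.SL2.trace_eq_of_disc h2 with h3 | h3
    · obtain ⟨b, hb, hc⟩ := Cfsg.Agent.SL2.isConj_upT h3 h1
      exact ⟨b, hb, Or.inl hc⟩
    · obtain ⟨b, hb, hc⟩ := Cfsg.Agent.SL2.isConj_upT (g := -g)
        (by rw [Cfsg.Agent.SL2.sl_trace_neg, h3, neg_neg])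
        (fun h => h1 (Cfsg.Agent.SL2.isScal_neg.mp h))
      refine ⟨b, hb, Or.inr ?_⟩
      obtain ⟨c, hc⟩ := isConj_iff.mp hc
      exact isConj_iff.mpr ⟨c, by rw [← hc]; simp⟩
  · exact Or.inr (Or.inl h2)

omit [DecidableEq F] in
theorem HalfPair.exists_nonsquare (h : HalfPair Φ χ χ') :
    ∃ d : F, ¬ IsSquare d ∧ ∀ b, χ' (upT (d * b)) = χ (upT b) := by
  obtain ⟨x, hx⟩ := h.cnj
  have hd : (x : Mat F).det ≠ 0 := x.det_ne_zero
  have hc' := isChar_classFun (isChar_of_irr h.irr')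
  have hc := isChar_classFun (isChar_of_irr h.irr)
  have key : ∀ b, χ' (upT ((x : Mat F).det * b)) = χ (upT b) := by
    intro b
    rw [← hx (upT b) (cj x (upT b)) (toGL_cj _ _)]
    apply classFun_of_isConj hc'
    rw [Cfsg.Agent.SL2.sl_isConj_iff]
    refine ⟨(x : Mat F) * !![(x : Mat F).det⁻¹, 0; 0, 1], ?_, ?_⟩
    · rw [Matrix.det_mul, Matrix.det_fin_two_of]
      field_simp
      ring
    · change _ = ((x : Mat F) * (upT b).1 * ((x⁻¹ : GL2 F) : Mat F)) * _
      rw [← mul_assoc, mul_assoc _ ((x⁻¹ : GL2 F) : Mat F), Units.inv_mul, mul_one, mul_assoc,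
        mul_assoc]
      congr 1
      simp only [Cfsg.Agent.SL2.upT_val, Matrix.mul_fin_two]
      ext i j
      fin_cases i <;> fin_cases j <;> simp [hd]
  refine ⟨_, fun hsq => h.ne ?_, key⟩
  have key2 : ∀ b, b ≠ 0 → χ' (upT b) = χ (upT b) := by
    intro b hb
    rw [← key b]
    apply classFun_of_isConj hc'
    rw [Cfsg.Agent.SL2.upT_isConj_iff hb (mul_ne_zero hd hb)]
    obtain ⟨s, hs⟩ := hsq
    exact ⟨s * b, by rw [hs]; ring⟩
  obtain ⟨ε, -, -, hε⟩ := h.neg
  funext g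
  rcases sl_cases g with h1 | h1 | ⟨b, hb, h1 | h1⟩
  · exact (h.central h1).symm
  · exact (h.semisimple h1).symm
  · rw [classFun_of_isConj hc h1, classFun_of_isConj hc' h1, key2 b hb]
  · rw [classFun_of_isConj hc h1, classFun_of_isConj hc' h1, (hε _).1, (hε _).2, key2 b hb]

omit [DecidableEq F] in
theorem HalfPair.two_ne_zero (h : HalfPair Φ χ χ') : (2 : F) ≠ 0 := by
  obtain ⟨d, hd, -⟩ := h.exists_nonsquare
  exact fun h2 => hd (Cfsg.Agent.SL2.isSquare_of_two_eq_zero h2 d)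

omit [DecidableEq F] [Fintype F] in
theorem HalfPair.upT_square (h : HalfPair Φ χ χ') {b : F} (hb : b ≠ 0) (hs : IsSquare b) :
    χ (upT b) = χ (upT 1) :=
  classFun_of_isConj (isChar_classFun (isChar_of_irr h.irr))
    ((Cfsg.Agent.SL2.upT_isConj_iff hb one_ne_zero).mpr (by rwa [mul_one]))

omit [DecidableEq F] in
theorem HalfPair.upT_nonsquare (h : HalfPair Φ χ χ') {b : F} (hs : ¬ IsSquare b) :
    χ' (upT b) = χ (upT 1) := by
  obtain ⟨d, hd, key⟩ := h.exists_nonsquare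
  rw [← key 1, mul_one]
  have hb : b ≠ 0 := by rintro rfl; exact hs IsSquare.zero
  have hd0 : d ≠ 0 := by rintro rfl; exact hd IsSquare.zero
  exact classFun_of_isConj (isChar_classFun (isChar_of_irr h.irr'))
    ((Cfsg.Agent.SL2.upT_isConj_iff hb hd0).mpr (Cfsg.Agent.SL2.isSquare_mul_of_not hs hd))

omit [DecidableEq F] in
theorem HalfPair.sum_upT (h : HalfPair Φ χ χ') : 2 * ∑ b, χ (upT b) = ∑ b, Φ (upT b) := by
  obtain ⟨d, hd, key⟩ := h.exists_nonsquare
  have hd0 : d ≠ 0 := by rintro rfl; exact hd IsSquare.zero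
  have : ∑ b, χ' (upT b) = ∑ b, χ (upT b) := by
    rw [← Equiv.sum_comp (Equiv.mulLeft₀ d hd0)]
    exact Finset.sum_congr rfl fun b _ => key b
  simp only [h.eq, Pi.add_apply, Finset.sum_add_distrib, this, _root_.two_mul]

omit [DecidableEq F] in
theorem HalfPair.diff_unip (h : HalfPair Φ χ χ') {g : SL2 F} (h1 : ¬ IsSc (g : Mat F))
    (h2 : (g : Mat F).trace ^ 2 = 4) :
    χ g - χ' g = χ (upT 1) - χ' (upT 1) ∨ χ g - χ' g = -(χ (upT 1) - χ' (upT 1)) := by
  have hc' := isChar_classFun (isChar_of_irr h.irr')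
  have hc := isChar_classFun (isChar_of_irr h.irr)
  have key : ∀ b : F, b ≠ 0 → χ (upT b) - χ' (upT b) = χ (upT 1) - χ' (upT 1) ∨
      χ (upT b) - χ' (upT b) = -(χ (upT 1) - χ' (upT 1)) := by
    intro b hb
    by_cases hs : IsSquare b
    · left; rw [h.upT_square hb hs, h.symm.upT_square hb hs]
    · right; rw [h.upT_nonsquare hs, h.symm.upT_nonsquare hs]; ring
  obtain ⟨ε, hε1, -, hε⟩ := h.neg
  rcases sl_cases g with h3 | h3 | ⟨b, hb, h3 | h3⟩
  · exact absurd h3 h1
  · exact absurd h2 h3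
  · rw [classFun_of_isConj hc h3, classFun_of_isConj hc' h3]
    exact key b hb
  · rw [classFun_of_isConj hc h3, classFun_of_isConj hc' h3, (hε _).1, (hε _).2, ← mul_sub]
    rcases hε1 with rfl | rfl <;> rcases key b hb with h4 | h4 <;> rw [h4] <;> simp

theorem HalfPair.normSq_diff (h : HalfPair Φ χ χ') :
    (χ (upT 1) - χ' (upT 1)) * conj (χ (upT 1) - χ' (upT 1)) = q := by
  obtain ⟨K, _, _, _, _, _⟩ := exists_quad F
  set w := χ (upT 1) - χ' (upT 1) with hw
  have hV : Vals (fun g : SL2 F => (g : Mat F)) (fun g => (χ - χ') g * conj ((χ - χ') g))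
      (fun _ => 0) (fun _ => w * conj w) (fun _ _ => 0) (fun _ : K => 0) := by
    constructor
    · intro g hg
      simp [h.central hg]
    · intro g a hg ht hd
      have h2 : (g : Mat F).trace ^ 2 = 4 := by
        rw [SL2_det] at hd
        rw [ht]; linear_combination -4 * hd
      rcases h.diff_unip hg h2 with h3 | h3 <;> rw [Pi.sub_apply, h3, ← hw]
      rw [map_neg]; ring
    · intro g a b hab ht hd
      have h2 : (g : Mat F).trace ^ 2 ≠ 4 := by
        rw [SL2_det] at hd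
        exact Cfsg.Agent.SL2.Spl.disc_one ⟨a, b, hab, ht.symm, hd.symm⟩
      simp [h.semisimple h2]
    · intro g z hz ht hd
      have h2 : (g : Mat F).trace ^ 2 ≠ 4 := by
        intro h2
        obtain ⟨a, h3, h4⟩ := Cfsg.Agent.SL2.par_one_of_disc h2
        rw [SL2_det] at hd
        exact not_split hz (ht.symm.trans h3.symm) (hd.symm.trans h4.symm)
      simp [h.semisimple h2]
  have h1 := hV.sum_SL'
  have h2 : classInner (χ - χ') (χ - χ') = 2 := by
    rw [CharLib.inner_sub_left, CharLib.inner_sub_right, CharLib.inner_sub_right,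
      inner_irr_self h.irr, inner_irr_self h.irr', inner_irr_ne h.irr h.irr' h.ne,
      inner_irr_ne h.irr' h.irr h.ne.symm]
    norm_num
  unfold classInner at h2
  rw [inv_mul_eq_iff_eq_mul₀ card_ne_zero, card_SL2] at h2
  have h3 : (Finset.univ.filter fun a : F => a * a = 1) = {1, -1} := by
    ext a; simp [mul_self_eq_one_iff]
  have h4 : (1 : F) ≠ -1 := fun e => h.two_ne_zero (by linear_combination e)
  simp only [h2, mul_zero, zero_add, sub_zero, Finset.sum_const_zero, add_zero] at h1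
  rw [← Finset.sum_filter, h3, Finset.sum_pair h4] at h1
  apply mul_left_cancel₀ (mul_ne_zero (by norm_num : (4 : ℂ) ≠ 0) (q_sq_sub_one_ne (F := F)))
  linear_combination -h1

theorem HalfPair.sq_diff (h : HalfPair Φ χ χ') :
    (χ (upT 1) - χ' (upT 1)) ^ 2 = (-1) ^ ((q - 1) / 2) * q := by
  have h1 := h.normSq_diff
  have h2 : conj (χ (upT 1) - χ' (upT 1)) = χ (upT (-1)) - χ' (upT (-1)) := by
    rw [map_sub, isChar_conj (isChar_of_irr h.irr), isChar_conj (isChar_of_irr h.irr'),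
      Cfsg.Agent.SL2.upT_neg]
  have hodd := Cfsg.Agent.SL2.odd_of_two_ne_zero h.two_ne_zero
  rw [Nat.odd_iff] at hodd
  by_cases hs : IsSquare (-1 : F)
  · rw [h2, h.upT_square (by simp) hs, h.symm.upT_square (by simp) hs] at h1
    rw [FiniteField.isSquare_neg_one_iff] at hs
    rw [Even.neg_one_pow (by rw [Nat.even_iff]; omega), sq, h1, one_mul]
  · rw [h2, h.upT_nonsquare hs, h.symm.upT_nonsquare hs] at h1
    rw [FiniteField.isSquare_neg_one_iff] at hs
    rw [Odd.neg_one_pow (by rw [Nat.odd_iff]; omega), ← h1]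
    ring

end halves

/-! ### Characters of order two -/

omit [DecidableEq F] [Fintype F] in
theorem quad_apply_square {α : MulChar F ℂ} (h2 : α ^ 2 = 1) {a : F} (ha : a ≠ 0)
    (hs : IsSquare a) : α a = 1 := by
  obtain ⟨s, rfl⟩ := hs
  rw [map_mul, ← sq, ← MulChar.pow_apply' _ two_ne_zero, h2,
    MulChar.one_apply (left_ne_zero_of_mul ha).isUnit]

omit [DecidableEq F] in
theorem quad_apply_nonsquare {α : MulChar F ℂ} (h1 : α ≠ 1) (h2 : α ^ 2 = 1) {a : F}
    (hs : ¬ IsSquare a) : α a = -1 := by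
  have ha : a ≠ 0 := by rintro rfl; exact hs IsSquare.zero
  have h3 : α a * α a = 1 := by rw [← map_mul]; exact quad_apply_square h2 (mul_ne_zero ha ha) ⟨a, rfl⟩
  rcases mul_self_eq_one_iff.mp h3 with h4 | h4
  · exfalso
    apply h1
    rw [MulChar.eq_one_iff]
    intro b
    by_cases hb : IsSquare (b : F)
    · exact quad_apply_square h2 b.ne_zero hb
    · have := quad_apply_square h2 (mul_ne_zero ha b.ne_zero)
        (Cfsg.Agent.SL2.isSquare_mul_of_not hs hb)
      rwa [map_mul, h4, one_mul] at this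
  · exact h4

omit [DecidableEq F] in
theorem quad_unique {α β : MulChar F ℂ} (h1 : α ≠ 1) (h2 : α ^ 2 = 1) (h3 : β ≠ 1)
    (h4 : β ^ 2 = 1) : α = β := by
  apply MulChar.ext
  intro a
  by_cases hs : IsSquare (a : F)
  · rw [quad_apply_square h2 a.ne_zero hs, quad_apply_square h4 a.ne_zero hs]
  · rw [quad_apply_nonsquare h1 h2 hs, quad_apply_nonsquare h3 h4 hs]

theorem cyclic_quad {A : Type*} [Group A] [Finite A] [IsCyclic A] {l : A →* ℂˣ} (h1 : l ≠ 1)
    (h2 : l ^ 2 = 1) : Even (Nat.card A) ∧ ∀ z : A,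
      (z ^ (Nat.card A / 2) = 1 → (l z : ℂ) = 1) ∧ (z ^ (Nat.card A / 2) ≠ 1 → (l z : ℂ) = -1) := by
  obtain ⟨g, hg⟩ := IsCyclic.exists_monoid_generator (α := A)
  have hog : orderOf g = Nat.card A := orderOf_eq_card_of_forall_mem_powers hg
  have h3 : l g * l g = 1 := by
    have := DFunLike.congr_fun h2 g
    simpa [sq] using this
  have h4 : l g = -1 := by
    rcases mul_self_eq_one_iff.mp (show (l g : ℂ) * l g = 1 by
      rw [← Units.val_mul, h3, Units.val_one]) with h | h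
    · exfalso
      apply h1
      ext z
      obtain ⟨k, rfl⟩ := hg z
      simp [h]
    · exact Units.ext h
  have h5 : Even (Nat.card A) := by
    have : l g ^ Nat.card A = 1 := by rw [← map_pow, pow_card_eq_one', map_one]
    rw [h4] at this
    exact (neg_one_pow_eq_one_iff_even (by
      intro h; have := congrArg Units.val h; norm_num at this)).mp this
  refine ⟨h5, fun z => ?_⟩
  obtain ⟨k, rfl⟩ := hg z
  obtain ⟨m, hm⟩ := h5
  have hm0 : 0 < m := by have := Nat.card_pos (α := A); omega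
  have h6 : (g ^ k) ^ (Nat.card A / 2) = 1 ↔ Even k := by
    rw [← pow_mul, ← orderOf_dvd_iff_pow_eq_one, hog, hm, ← two_mul, Nat.mul_div_cancel_left _ two_pos,
      Nat.mul_dvd_mul_iff_right hm0, even_iff_two_dvd]
  simp only [Ne, h6, map_pow, h4, Units.val_pow_eq_pow_val, Units.val_neg, Units.val_one]
  exact ⟨fun h => h.neg_one_pow, fun h => (Nat.not_even_iff_odd.mp h).neg_one_pow⟩

theorem cyclic_quad_unique {A : Type*} [Group A] [Finite A] [IsCyclic A] {l l' : A →* ℂˣ}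
    (h1 : l ≠ 1) (h2 : l ^ 2 = 1) (h3 : l' ≠ 1) (h4 : l' ^ 2 = 1) : l = l' := by
  ext z
  by_cases hz : z ^ (Nat.card A / 2) = 1
  · rw [((cyclic_quad h1 h2).2 z).1 hz, ((cyclic_quad h3 h4).2 z).1 hz]
  · rw [((cyclic_quad h1 h2).2 z).2 hz, ((cyclic_quad h3 h4).2 z).2 hz]

theorem card_sq_eq_one_of_cyclic (A : Type*) [CommGroup A] [Finite A] [IsCyclic A] :
    Nat.card {a : A // a ^ 2 = 1} = (Nat.card A).gcd 2 := by
  rw [← IsCyclic.card_powMonoidHom_ker]
  rfl

theorem card_hom_cyclic (A : Type*) [CommGroup A] [Finite A] :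
    Nat.card (A →* ℂˣ) = Nat.card A :=
  CommGroup.card_monoidHom_of_hasEnoughRootsOfUnity A ℂ

theorem card_hom_sq_eq_one (A : Type*) [CommGroup A] [Finite A] [IsCyclic A] :
    Nat.card {l : A →* ℂˣ // l ^ 2 = 1} = (Nat.card A).gcd 2 := by
  have : IsCyclic (A →* ℂˣ) :=
    (CommGroup.monoidHom_mulEquiv_of_hasEnoughRootsOfUnity A ℂ).some.isCyclic.mpr inferInstance
  have h : Finite (A →* ℂˣ) :=
    Finite.of_equiv _ (CommGroup.monoidHom_mulEquiv_of_hasEnoughRootsOfUnity A ℂ).some.toEquiv.symm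
  rw [← card_hom_cyclic A]
  exact card_sq_eq_one_of_cyclic (A →* ℂˣ)

omit [DecidableEq F] in
theorem card_mulChar_sq_eq_one : Nat.card {α : MulChar F ℂ // α ^ 2 = 1} = (q - 1).gcd 2 := by
  have := isCyclic_mulChar (F := F)
  rw [card_sq_eq_one_of_cyclic, card_mulChar]

omit [DecidableEq F] in
theorem exists_quad_char (hodd : Odd q) : ∃ α : MulChar F ℂ, α ≠ 1 ∧ α ^ 2 = 1 := by
  by_contra hc
  push Not at hc
  have h1 : Nat.card {α : MulChar F ℂ // α ^ 2 = 1} = 1 := by
    rw [Nat.card_eq_one_iff_exists]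
    refine ⟨⟨1, one_pow 2⟩, fun ⟨α, hα⟩ => Subtype.ext ?_⟩
    by_contra h
    exact hc α h hα
  rw [card_mulChar_sq_eq_one, Nat.gcd_eq_right (by obtain ⟨k, hk⟩ := hodd; omega)] at h1
  omega

omit [DecidableEq F] [DecidableEq K] in
variable (K) in
theorem exists_quad_mu (hodd : Odd q) :
    ∃ θ : MulChar K ℂ, resMu F θ ≠ 1 ∧ resMu F θ ^ 2 = 1 := by
  by_contra hc
  push Not at hc
  have h1 : Nat.card {l : mu F K →* ℂˣ // l ^ 2 = 1} = 1 := by
    rw [Nat.card_eq_one_iff_exists]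
    refine ⟨⟨1, hom_one_pow 2⟩, fun ⟨l, hl⟩ => Subtype.ext ?_⟩
    by_contra h
    obtain ⟨θ, rfl⟩ := resMu_surjective l
    exact hc θ h hl
  rw [card_hom_sq_eq_one, card_mu, Nat.gcd_eq_right (by obtain ⟨k, hk⟩ := hodd; omega)] at h1
  omega

/-! ### Classification by degree -/

omit [DecidableEq F] in
theorem two_le_q : (2 : ℝ) ≤ q := by exact_mod_cast Fintype.one_lt_card

theorem sl_degree_q {χ : SL2 F → ℂ} (hχ : IsIrrCharacter _ χ) (h : χ 1 = q) : χ = stSL F := by
  obtain ⟨K, _, _, _, _, _⟩ := exists_quad F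
  have hq := two_le_q (F := F)
  rcases isIrr_SL2_cases K hχ with rfl | h1 | ⟨α, -, rfl⟩ | ⟨θ, -, rfl⟩ | ⟨α, -, -, χ', h1⟩ |
    ⟨θ, -, -, χ', h1⟩
  · have := congrArg Complex.re h; simp at this; linarith
  · exact h1
  · rw [psSL_apply_one] at h; simp at h
  · rw [cuspSL_apply_one] at h; have := congrArg Complex.re h; simp at this
  · have h2 := h1.degree
    rw [psSL_apply_one, h] at h2; have := congrArg Complex.re h2; simp at this; linarith
  · have h2 := h1.degree
    rw [cuspSL_apply_one, h] at h2; have := congrArg Complex.re h2; simp at this; linarith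

theorem sl_degree_q_add_one {χ : SL2 F → ℂ} (hχ : IsIrrCharacter _ χ) (h : χ 1 = q + 1) :
    ∃ α : MulChar F ℂ, α ^ 2 ≠ 1 ∧ χ = psSL α := by
  obtain ⟨K, _, _, _, _, _⟩ := exists_quad F
  have hq := two_le_q (F := F)
  rcases isIrr_SL2_cases K hχ with rfl | rfl | h1 | ⟨θ, -, rfl⟩ | ⟨α, -, -, χ', h1⟩ |
    ⟨θ, -, -, χ', h1⟩
  · simp at h
  · rw [stSL_apply_one] at h; simp at h
  · exact h1
  · rw [cuspSL_apply_one] at h; have := congrArg Complex.re h; simp at this; linarith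
  · have h2 := h1.degree
    rw [psSL_apply_one, h] at h2; have := congrArg Complex.re h2; simp at this; linarith
  · have h2 := h1.degree
    rw [cuspSL_apply_one, h] at h2; have := congrArg Complex.re h2; simp at this; linarith

variable (K) in
theorem sl_degree_q_sub_one {χ : SL2 F → ℂ} (hχ : IsIrrCharacter _ χ) (h : χ 1 = q - 1) :
    (∃ θ : MulChar K ℂ, resMu F θ ^ 2 ≠ 1 ∧ χ = cuspSL F θ) ∨ (q = 2 ∧ χ = fun _ => 1) ∨
      (q = 3 ∧ ∃ α : MulChar F ℂ, α ≠ 1 ∧ α ^ 2 = 1 ∧ ∃ χ', HalfPair (psSL α) χ χ') := by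
  have hq := two_le_q (F := F)
  rcases isIrr_SL2_cases K hχ with rfl | rfl | ⟨α, -, rfl⟩ | h1 | ⟨α, h2, h3, χ', h1⟩ |
    ⟨θ, -, -, χ', h1⟩
  · right; left
    have : (q : ℂ) = 2 := by linear_combination -h
    exact ⟨by exact_mod_cast this, rfl⟩
  · rw [stSL_apply_one] at h; have := congrArg Complex.re h; simp at this; linarith
  · rw [psSL_apply_one] at h; have := congrArg Complex.re h; simp at this; linarith
  · exact Or.inl h1
  · have h4 := h1.degree
    rw [psSL_apply_one, h] at h4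
    right; right
    have : (q : ℂ) = 3 := by linear_combination h4
    exact ⟨by exact_mod_cast this, α, h2, h3, χ', h1⟩
  · have h2 := h1.degree
    rw [cuspSL_apply_one, h] at h2; have := congrArg Complex.re h2; simp at this; linarith

variable (K) in
theorem sl_degree_half_add {χ : SL2 F → ℂ} (hχ : IsIrrCharacter _ χ) (h : 2 * χ 1 = q + 1) :
    (∃ α : MulChar F ℂ, α ≠ 1 ∧ α ^ 2 = 1 ∧ ∃ χ', HalfPair (psSL α) χ χ') ∨
      (q = 3 ∧ ∃ θ : MulChar K ℂ, resMu F θ ^ 2 ≠ 1 ∧ χ = cuspSL F θ) := by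
  have hq := two_le_q (F := F)
  rcases isIrr_SL2_cases K hχ with rfl | rfl | ⟨α, -, rfl⟩ | ⟨θ, h1, rfl⟩ | h1 |
    ⟨θ, -, -, χ', h1⟩
  · have := congrArg Complex.re h; simp at this; linarith
  · rw [stSL_apply_one] at h; have := congrArg Complex.re h; simp at this; linarith
  · rw [psSL_apply_one] at h; have := congrArg Complex.re h; simp at this; linarith
  · rw [cuspSL_apply_one] at h
    right
    have : (q : ℂ) = 3 := by linear_combination h
    exact ⟨by exact_mod_cast this, θ, h1, rfl⟩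
  · exact Or.inl h1
  · have h2 := h1.degree
    rw [cuspSL_apply_one, h] at h2; have := congrArg Complex.re h2; simp at this; linarith

variable (K) in
theorem sl_degree_half_sub {χ : SL2 F → ℂ} (hχ : IsIrrCharacter _ χ) (h : 2 * χ 1 = q - 1) :
    (∃ θ : MulChar K ℂ, resMu F θ ≠ 1 ∧ resMu F θ ^ 2 = 1 ∧ ∃ χ', HalfPair (cuspSL F θ) χ χ') ∨
      (q = 3 ∧ χ = fun _ => 1) := by
  have hq := two_le_q (F := F)
  rcases isIrr_SL2_cases K hχ with rfl | rfl | ⟨α, -, rfl⟩ | ⟨θ, h1, rfl⟩ | ⟨α, -, -, χ', h1⟩ | h1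
  · right
    have : (q : ℂ) = 3 := by linear_combination -h
    exact ⟨by exact_mod_cast this, rfl⟩
  · rw [stSL_apply_one] at h; have := congrArg Complex.re h; simp at this; linarith
  · rw [psSL_apply_one] at h; have := congrArg Complex.re h; simp at this; linarith
  · rw [cuspSL_apply_one] at h; have := congrArg Complex.re h; simp at this; linarith
  · have h2 := h1.degree
    rw [psSL_apply_one, h] at h2; have := congrArg Complex.re h2; simp at this; linarith
  · exact Or.inl h1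

theorem sl_degree_one (hq4 : 4 ≤ q) {χ : SL2 F → ℂ} (hχ : IsIrrCharacter _ χ) (h : χ 1 = 1) :
    χ = fun _ => 1 := by
  obtain ⟨K, _, _, _, _, _⟩ := exists_quad F
  have hq : (4 : ℝ) ≤ q := by exact_mod_cast hq4
  rcases isIrr_SL2_cases K hχ with h1 | rfl | ⟨α, -, rfl⟩ | ⟨θ, -, rfl⟩ | ⟨α, -, -, χ', h1⟩ |
    ⟨θ, -, -, χ', h1⟩
  · exact h1
  · rw [stSL_apply_one] at h; have := congrArg Complex.re h; simp at this; linarith
  · rw [psSL_apply_one] at h; simp at h
  · rw [cuspSL_apply_one] at h; have := congrArg Complex.re h; simp at this; linarith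
  · have h2 := h1.degree
    rw [psSL_apply_one, h] at h2; have := congrArg Complex.re h2; simp at this; linarith
  · have h2 := h1.degree
    rw [cuspSL_apply_one, h] at h2; have := congrArg Complex.re h2; simp at this; linarith

omit [Field F] [DecidableEq F] in
theorem cast_half_add (hodd : Odd q) : 2 * (((q + 1) / 2 : ℕ) : ℂ) = q + 1 := by
  obtain ⟨k, hk⟩ := hodd
  rw [show (q + 1) / 2 = k + 1 by omega, hk]
  push_cast; ring

omit [Field F] [DecidableEq F] in
theorem cast_half_sub (hodd : Odd q) : 2 * (((q - 1) / 2 : ℕ) : ℂ) = q - 1 := by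
  obtain ⟨k, hk⟩ := hodd
  rw [show (q - 1) / 2 = k by omega, hk]
  push_cast; ring

end Cfsg.Agent.GL2Char
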