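import Cfsg.Agent.GL2Char.Half

/-!
# Counting irreducible characters of `SL₂` by degree; further value lemmas
-/

set_option autoImplicit false

namespace Cfsg.Agent.GL2Char

open Cfsg Cfsg.Agent.CharLib
open Cfsg.Agent.SL2 (upT)
open scoped ComplexConjugate

attribute [local simp] MulChar.map_zero

variable {F K : Type*} [Field F] [Fintype F] [DecidableEq F] [Field K] [Fintype K] [DecidableEq K]
  [Algebra F K] [hK : Fact (Module.finrank F K = 2)]

local notation "q" => Fintype.card F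

theorem card_irr_eq_one {G : Type*} [Group G] (P : (G → ℂ) → Prop) {χ₀ : G → ℂ}
    (h0 : IsIrrCharacter G χ₀) (hP : P χ₀) (h : ∀ χ, IsIrrCharacter G χ → P χ → χ = χ₀) :
    Nat.card {χ : IrrCharacter G // P χ} = 1 := by
  rw [Nat.card_eq_one_iff_exists]
  exact ⟨⟨⟨χ₀, h0⟩, hP⟩, fun χ => Subtype.ext (Subtype.ext (h _ χ.1.2 χ.2))⟩

theorem card_irr_eq_two {G : Type*} [Group G] (P : (G → ℂ) → Prop) {χ₁ χ₂ : G → ℂ}
    (h1 : IsIrrCharacter G χ₁) (hP1 : P χ₁) (h2 : IsIrrCharacter G χ₂) (hP2 : P χ₂) (hne : χ₁ ≠ χ₂)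
    (h : ∀ χ, IsIrrCharacter G χ → P χ → χ = χ₁ ∨ χ = χ₂) :
    Nat.card {χ : IrrCharacter G // P χ} = 2 := by
  rw [Nat.card_eq_two_iff]
  refine ⟨⟨⟨χ₁, h1⟩, hP1⟩, ⟨⟨χ₂, h2⟩, hP2⟩, fun e => hne (congrArg (fun x => x.1.1) e), ?_⟩
  ext χ
  simp only [Set.mem_insert_iff, Set.mem_singleton_iff, Set.mem_univ, iff_true, Subtype.ext_iff]
  exact h _ χ.1.2 χ.2

theorem card_sl_degree_one (hq : 4 ≤ q) :
    Nat.card {χ : IrrCharacter (SL2 F) // (χ : SL2 F → ℂ) 1 = 1} = 1 :=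
  card_irr_eq_one (fun χ => χ 1 = 1) isIrr_one rfl fun _ hχ h => sl_degree_one hq hχ h

theorem card_sl_degree_q :
    Nat.card {χ : IrrCharacter (SL2 F) // (χ : SL2 F → ℂ) 1 = q} = 1 :=
  card_irr_eq_one (fun χ => χ 1 = q) isIrr_stSL stSL_apply_one fun _ hχ h => sl_degree_q hχ h

theorem card_sl_degree_q_add_one :
    2 * Nat.card {χ : IrrCharacter (SL2 F) // (χ : SL2 F → ℂ) 1 = q + 1} =
      q - 1 - (q - 1).gcd 2 := by
  rw [card_irr_eq_card_range (fun α : {α : MulChar F ℂ // ¬ α ^ 2 = 1} => psSL α.1)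
    (fun χ => χ 1 = (q : ℂ) + 1)]
  · rw [card_range_two_to_one (fun α : {α : MulChar F ℂ // ¬ α ^ 2 = 1} => psSL α.1)
      (fun α => ⟨α.1⁻¹, by rw [inv_pow, inv_eq_one]; exact α.2⟩)
      (fun α h => α.2 (by
        rw [sq, mul_eq_one_iff_eq_inv]; exact (congrArg Subtype.val h).symm))
      (fun α α' => by rw [psSL_eq_iff]; simp only [Subtype.ext_iff]),
      card_subtype_not, card_mulChar, card_mulChar_sq_eq_one]
  · intro χ
    constructor
    · intro h
      obtain ⟨α, h1, h2⟩ := sl_degree_q_add_one h.1 h.2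
      exact ⟨⟨α, h1⟩, h2⟩
    · rintro ⟨α, rfl⟩
      exact ⟨(isIrr_psSL_iff _).mpr α.2, psSL_apply_one _⟩

theorem card_sl_degree_q_sub_one (hq : 4 ≤ q) :
    2 * Nat.card {χ : IrrCharacter (SL2 F) // (χ : SL2 F → ℂ) 1 = q - 1} =
      q + 1 - (q + 1).gcd 2 := by
  obtain ⟨K, _, _, _, _, _⟩ := exists_quad F
  choose s hs using resMu_surjective (F := F) (K := K)
  have : Finite (mu F K →* ℂˣ) := Finite.of_surjective _ resMu_surjective
  rw [card_irr_eq_card_range (fun l : {l : mu F K →* ℂˣ // ¬ l ^ 2 = 1} => cuspSL F (s l.1))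
    (fun χ => χ 1 = (q : ℂ) - 1)]
  · rw [card_range_two_to_one (fun l : {l : mu F K →* ℂˣ // ¬ l ^ 2 = 1} => cuspSL F (s l.1))
      (fun l => ⟨l.1⁻¹, by
        rw [hom_sq_eq_one_iff, hom_inv_inj, ← hom_sq_eq_one_iff]; exact l.2⟩)
      (fun l h => l.2 (by
        rw [hom_sq_eq_one_iff]; exact (congrArg Subtype.val h).symm))
      (fun l l' => by rw [cuspSL_eq_iff, hs, hs]; simp only [Subtype.ext_iff]),
      card_subtype_not, card_hom_cyclic, card_hom_sq_eq_one, card_mu]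
  · intro χ
    constructor
    · intro h
      rcases sl_degree_q_sub_one K h.1 h.2 with ⟨θ, h1, h2⟩ | h1 | h1
      · exact ⟨⟨resMu F θ, h1⟩, h2.trans ((cuspSL_eq_iff _ _).mpr (Or.inl (hs _).symm))⟩
      · omega
      · omega
    · rintro ⟨l, rfl⟩
      exact ⟨isIrr_cuspSL (by rw [hs]; exact l.2), cuspSL_apply_one _⟩

theorem card_sl_degree_half_add (hodd : Odd q) (hq : 5 ≤ q) :
    Nat.card {χ : IrrCharacter (SL2 F) // (χ : SL2 F → ℂ) 1 = (((q + 1) / 2 : ℕ) : ℂ)} = 2 := by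
  obtain ⟨K, _, _, _, _, _⟩ := exists_quad F
  obtain ⟨α, h1, h2⟩ := exists_quad_char hodd
  obtain ⟨χ₁, χ₂, h⟩ := exists_halfPair_ps h1 h2
  have hc := cast_half_add hodd
  refine card_irr_eq_two (fun χ => χ 1 = (((q + 1) / 2 : ℕ) : ℂ)) h.irr ?_ h.irr' ?_ h.ne ?_
  · have := h.degree
    rw [psSL_apply_one] at this
    linear_combination (this - hc) / 2
  · have := h.symm.degree
    rw [psSL_apply_one] at this
    linear_combination (this - hc) / 2
  · intro χ hχ hd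
    rcases sl_degree_half_add K hχ (by rw [hd, hc]) with ⟨β, h3, h4, χ', h5⟩ | h3
    · rw [quad_unique h3 h4 h1 h2] at h5
      exact h.eq_or_eq h5
    · omega

theorem card_sl_degree_half_sub (hodd : Odd q) (hq : 5 ≤ q) :
    Nat.card {χ : IrrCharacter (SL2 F) // (χ : SL2 F → ℂ) 1 = (((q - 1) / 2 : ℕ) : ℂ)} = 2 := by
  obtain ⟨K, _, _, _, _, _⟩ := exists_quad F
  obtain ⟨θ, h1, h2⟩ := exists_quad_mu K hodd
  obtain ⟨χ₁, χ₂, h⟩ := exists_halfPair_cusp h1 h2
  have hc := cast_half_sub hodd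
  refine card_irr_eq_two (fun χ => χ 1 = (((q - 1) / 2 : ℕ) : ℂ)) h.irr ?_ h.irr' ?_ h.ne ?_
  · have := h.degree
    rw [cuspSL_apply_one] at this
    linear_combination (this - hc) / 2
  · have := h.symm.degree
    rw [cuspSL_apply_one] at this
    linear_combination (this - hc) / 2
  · intro χ hχ hd
    rcases sl_degree_half_sub K hχ (by rw [hd, hc]) with ⟨β, h3, h4, χ', h5⟩ | h3
    · rw [(cuspSL_eq_iff _ _).mpr (Or.inl (cyclic_quad_unique h3 h4 h1 h2))] at h5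
      exact h.eq_or_eq h5
    · omega

/-! ### Further values -/

omit [Fintype F] [DecidableEq F] in
theorem sl_diag {g : SL2 F} (h10 : (g : Mat F) 1 0 = 0) (h : (g : Mat F) 0 0 ^ 2 ≠ 1) :
    (g : Mat F) 0 0 ≠ (g : Mat F) 1 1 := by
  intro e
  apply h
  have h1 := (diag_trace_det h10).2
  rw [SL2_det, ← e] at h1
  rw [sq, ← h1]

omit [Fintype F] [DecidableEq F] in
theorem sl_diag_disc {g : SL2 F} (h10 : (g : Mat F) 1 0 = 0) (h : (g : Mat F) 0 0 ^ 2 ≠ 1) :
    (g : Mat F).trace ^ 2 ≠ 4 :=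
  Cfsg.Agent.SL2.Spl.disc_one ⟨_, _, sl_diag h10 h, (diag_trace_det h10).1.symm,
    (diag_trace_det h10).2.symm.trans (SL2_det g)⟩

omit [DecidableEq F] [DecidableEq K] in
theorem ell_disc {g : SL2 F} {z : K} (hz : z ^ q ≠ z) (ht : (g : Mat F).trace = Algebra.trace F K z)
    (hd : (g : Mat F).det = Algebra.norm F z) : (g : Mat F).trace ^ 2 ≠ 4 := by
  intro h2
  obtain ⟨a, h3, h4⟩ := Cfsg.Agent.SL2.par_one_of_disc h2
  rw [SL2_det] at hd
  exact not_split hz (ht.symm.trans h3.symm) (hd.symm.trans h4.symm)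

omit [Fintype F] [DecidableEq F] in
theorem upT_data {b : F} (hb : b ≠ 0) : ¬ IsSc ((upT b : SL2 F) : Mat F) ∧
    ((upT b : SL2 F) : Mat F).trace = 1 + 1 ∧ ((upT b : SL2 F) : Mat F).det = 1 * 1 :=
  ⟨fun h => hb (Cfsg.Agent.SL2.isScal_upT.mp h), by rw [Cfsg.Agent.SL2.trace_upT]; norm_num,
    by rw [SL2_det, mul_one]⟩

omit [Fintype K] [DecidableEq K] hK [DecidableEq F] in
theorem Vals.upT {f : SL2 F → ℂ} {fZ fU : F → ℂ} {fT : F → F → ℂ} {fK : K → ℂ}
    (h : Vals (fun g : SL2 F => (g : Mat F)) f fZ fU fT fK) {b : F} (hb : b ≠ 0) :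
    f (upT b) = fU 1 :=
  h.un _ 1 (upT_data hb).1 (upT_data hb).2.1 (upT_data hb).2.2

omit [Fintype K] [DecidableEq K] hK in
theorem Vals.sum_upT {f : SL2 F → ℂ} {fZ fU : F → ℂ} {fT : F → F → ℂ} {fK : K → ℂ}
    (h : Vals (fun g : SL2 F => (g : Mat F)) f fZ fU fT fK) :
    ∑ b, f (Cfsg.Agent.SL2.upT b) = fZ 1 + ((q : ℂ) - 1) * fU 1 := by
  rw [← Finset.add_sum_erase _ _ (Finset.mem_univ (0 : F)),
    Finset.sum_congr rfl fun b hb => h.upT (Finset.ne_of_mem_erase hb), Finset.sum_const,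
    Finset.card_erase_of_mem (Finset.mem_univ _), Finset.card_univ, nsmul_eq_mul,
    Nat.cast_sub Fintype.card_pos, Cfsg.Agent.SL2.upT_zero, h.sc 1 (by simp [IsSc])]
  simp

theorem sum_ite_unip (f : SL2 F → ℂ) :
    (∑ g : SL2 F, if (g : Mat F) 1 0 = 0 ∧ (g : Mat F) 0 0 = 1 ∧ (g : Mat F) 1 1 = 1 then f g
      else 0) = ∑ b, f (upT b) := by
  rw [← Finset.sum_filter]
  symm
  refine Finset.sum_bij (fun b _ => upT b) ?_ ?_ ?_ ?_
  · intro b _
    exact Finset.mem_filter.mpr ⟨Finset.mem_univ _, rfl, rfl, rfl⟩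
  · intro a _ b _ h
    exact Cfsg.Agent.SL2.upT_injective h
  · intro g hg
    obtain ⟨h1, h2, h3⟩ := (Finset.mem_filter.mp hg).2
    refine ⟨(g : Mat F) 0 1, Finset.mem_univ _, Subtype.ext ?_⟩
    rw [Cfsg.Agent.SL2.upT_val]
    conv_rhs => rw [Matrix.eta_fin_two g.1, h1, h2, h3]
  · intro _ _; rfl

omit [DecidableEq F] [DecidableEq K] in
theorem exists_mu {z : K} (hz : Algebra.norm F z = 1) : ∃ w : mu F K, ((w : Kˣ) : K) = z := by
  have h2 : z ≠ 0 := by
    rintro rfl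
    rw [norm_eq_zero_iff'.mpr rfl] at hz
    exact zero_ne_one hz
  exact ⟨⟨Units.mk0 z h2, mem_mu.mpr hz⟩, rfl⟩

omit [DecidableEq F] [DecidableEq K] in
theorem cusp_val_mu (θ : MulChar K ℂ) (w : mu F K) :
    θ ((w : Kˣ) : K) + θ (((w : Kˣ) : K) ^ q) = (resMu F θ w : ℂ) + ((resMu F θ w)⁻¹ : ℂˣ) := by
  rw [pow_q_of_mem_mu, ← resMu_apply (F := F), ← resMu_apply (F := F), map_inv]

omit [DecidableEq F] [DecidableEq K] in
theorem cusp_val_three (hq : q = 3) {l : mu F K →* ℂˣ} (h : l ^ 2 ≠ 1) {w : mu F K}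
    (hw : ((w : Kˣ) : K) ^ q ≠ (w : Kˣ)) : (l w : ℂ) + ((l w)⁻¹ : ℂˣ) = 0 := by
  have h4 : Nat.card (mu F K) = 2 ^ 2 := by rw [card_mu, hq]; norm_num
  have hw2 : ¬ w ^ 2 ^ 1 = 1 := by
    intro h2
    apply hw
    rw [pow_q_of_mem_mu]
    rw [pow_one, sq, mul_eq_one_iff_eq_inv] at h2
    rw [← h2]
  have hw4 : w ^ 2 ^ 2 = 1 := by rw [← h4, pow_card_eq_one']
  have : Fact (Nat.Prime 2) := ⟨Nat.prime_two⟩
  have ho : orderOf w = Nat.card (mu F K) := by rw [h4]; exact orderOf_eq_prime_pow hw2 hw4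
  have htop : Subgroup.zpowers w = ⊤ := by
    rw [← Subgroup.card_eq_iff_eq_top, Nat.card_zpowers, ho]
  have h5 : (l w : ℂ) ^ 2 * (l w : ℂ) ^ 2 = 1 := by
    rw [← pow_add, ← Units.val_pow_eq_pow_val, ← map_pow]
    rw [show 2 + 2 = 2 ^ 2 by norm_num, hw4]; simp
  rcases mul_self_eq_one_iff.mp h5 with h6 | h6
  · exfalso
    apply h
    ext x
    obtain ⟨k, rfl⟩ : x ∈ Subgroup.zpowers w := htop ▸ Subgroup.mem_top x
    simp only [MonoidHom.pow_apply, map_zpow, Units.val_pow_eq_pow_val, Units.val_zpow_eq_zpow_val,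
      MonoidHom.one_apply, Units.val_one]
    rw [h6]
  · rw [Units.val_inv_eq_inv_val]
    have h7 : (l w : ℂ) ≠ 0 := (l w).ne_zero
    field_simp
    linear_combination h6

omit [DecidableEq F] [DecidableEq K] in
theorem ell_pow_eq_one_iff {g : SL2 F} {w : mu F K} (hz : ((w : Kˣ) : K) ^ q ≠ (w : Kˣ))
    (ht : (g : Mat F).trace = Algebra.trace F K ((w : Kˣ) : K)) (n : ℕ) :
    (g : Mat F) ^ n = 1 ↔ w ^ n = 1 := by
  have hd : (g : Mat F).det = Algebra.norm F ((w : Kˣ) : K) := by rw [SL2_det, mem_mu.mp w.2]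
  have hc : IsConj (Matrix.SpecialLinearGroup.toGL g) (iotaGL F K w) :=
    isConj_of_trace_det (not_isSc_of_ell hz ht hd)
      (not_isSc_of_ell hz (iota_trace _) (iota_det _)) (ht.trans (iota_trace _).symm)
      (hd.trans (iota_det _).symm)
  obtain ⟨c, hc⟩ := isConj_iff.mp hc
  have h1 : (g : Mat F) ^ n = 1 ↔ (Matrix.SpecialLinearGroup.toGL g) ^ n = 1 := by
    rw [Units.ext_iff]; rfl
  rw [h1, Subtype.ext_iff, ← (iotaGL_injective (F := F)).eq_iff, SubmonoidClass.coe_pow, map_pow,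
    ← hc, conj_pow]
  simp [mul_inv_eq_iff_eq_mul]

/-- The norm one torus inside `SL₂`. -/
noncomputable def muSL (w : mu F K) : SL2 F :=
  ⟨iota F K (w : Kˣ), by rw [iota_det, mem_mu.mp w.2]⟩

omit [Fintype F] [DecidableEq F] [DecidableEq K] in
theorem toGL_muSL (w : mu F K) : Matrix.SpecialLinearGroup.toGL (muSL w) = iotaGL F K w :=
  Units.ext rfl

omit [DecidableEq F] [DecidableEq K] in
variable (K) in
/-- A cyclic subgroup of order `q + 1` is a conjugate of the norm one torus. -/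
theorem exists_torus_equiv (hodd : Odd q) (C : Subgroup (SL2 F)) (hC : IsCyclic C)
    (hcard : Nat.card C = q + 1) : ∃ e : mu F K ≃* C, ∀ w : mu F K,
      IsConj (iotaGL F K w) (Matrix.SpecialLinearGroup.toGL (e w : SL2 F)) := by
  obtain ⟨c, hc⟩ := IsCyclic.exists_generator (α := C)
  have ho : orderOf (c : SL2 F) = q + 1 := by
    rw [Subgroup.orderOf_coe, orderOf_eq_card_of_forall_mem_zpowers hc, hcard]
  have hq : 3 ≤ q := by
    have : 1 < q := Fintype.one_lt_card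
    obtain ⟨k, hk⟩ := hodd; omega
  obtain ⟨p, hp, n, hpp, hpn⟩ := FiniteField.card' F
  have hell : ∃ z : K, z ^ q ≠ z ∧ ((c : SL2 F) : Mat F).trace = Algebra.trace F K z ∧
      ((c : SL2 F) : Mat F).det = Algebra.norm F z := by
    rcases trichotomy K ((c : SL2 F) : Mat F).trace ((c : SL2 F) : Mat F).det with
      ⟨a, h1, h2⟩ | ⟨a, b, h1, h2, h3⟩ | h1
    · exfalso
      rw [SL2_det] at h2
      have h3 : (c : SL2 F) ^ (2 * p) = 1 := by
        rcases mul_self_eq_one_iff.mp h2.symm with rfl | rfl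
        · rw [mul_comm, pow_mul, Cfsg.Agent.SL2.sl_pow_char_of_trace_two p
            (by rw [h1]; norm_num), one_pow]
        · have h4 := Cfsg.Agent.SL2.sl_pow_char_of_trace_two p (g := -(c : SL2 F))
            (by rw [Cfsg.Agent.SL2.sl_trace_neg, h1]; norm_num)
          rw [← Even.neg_pow (even_two_mul p), mul_comm, pow_mul, h4, one_pow]
      rw [← orderOf_dvd_iff_pow_eq_one, ho] at h3
      have h5 : Nat.Coprime (q + 1) p := by
        rw [hpn, Nat.coprime_comm, hpp.coprime_iff_not_dvd]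
        intro h6
        have h7 : p ∣ p ^ (n : ℕ) := dvd_pow_self p n.ne_zero
        exact hpp.one_lt.ne' (Nat.dvd_one.mp ((Nat.dvd_add_right h7).mp h6))
      have := Nat.le_of_dvd two_pos (h5.dvd_of_dvd_mul_right h3)
      omega
    · exfalso
      rw [SL2_det] at h3
      have h4 := Cfsg.Agent.SL2.pow_of_spl (g := c) ⟨a, b, h1, h2.symm, h3.symm⟩
      rw [← orderOf_dvd_iff_pow_eq_one, ho] at h4
      have := Nat.le_of_dvd (by omega) h4
      omega
    · exact h1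
  obtain ⟨z, hz, ht, hd⟩ := hell
  obtain ⟨w₀, rfl⟩ := exists_mu (hd.symm.trans (SL2_det _))
  have hcj : IsConj (iotaGL F K w₀) (Matrix.SpecialLinearGroup.toGL (c : SL2 F)) :=
    isConj_of_trace_det (not_isSc_of_ell hz (iota_trace _) (iota_det _))
      (not_isSc_of_ell hz ht hd) ((iota_trace _).trans ht.symm) ((iota_det _).trans hd.symm)
  obtain ⟨y, hy⟩ := isConj_iff.mp hcj
  let φ : mu F K →* SL2 F :=
    { toFun := fun w => cj y (muSL w)
      map_one' := Matrix.SpecialLinearGroup.toGL_injective (by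
        rw [toGL_cj, toGL_muSL, map_one, mul_inv_eq_one, mul_eq_left]
        simp)
      map_mul' := fun a b => Matrix.SpecialLinearGroup.toGL_injective (by
        rw [map_mul, toGL_cj, toGL_cj, toGL_cj, conj_mul, toGL_muSL, toGL_muSL, toGL_muSL,
          ← map_mul]
        simp) }
  have hφ : ∀ w, Matrix.SpecialLinearGroup.toGL (φ w) = y * iotaGL F K w * y⁻¹ := fun w =>
    (toGL_cj _ _).trans (by rw [toGL_muSL])
  have hinj : Function.Injective φ := by
    intro a b hab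
    have := congrArg Matrix.SpecialLinearGroup.toGL hab
    rw [hφ, hφ, mul_left_inj, mul_right_inj] at this
    exact Subtype.ext (iotaGL_injective this)
  have hle : C ≤ φ.range := by
    intro x hx
    obtain ⟨k, hk⟩ := hc ⟨x, hx⟩
    have h1 : (c : SL2 F) ∈ φ.range :=
      ⟨w₀, Matrix.SpecialLinearGroup.toGL_injective (by rw [hφ, hy])⟩
    have h2 := congrArg Subtype.val hk
    simp only [SubgroupClass.coe_zpow] at h2
    exact h2 ▸ φ.range.zpow_mem h1 k
  have heq : φ.range = C := by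
    symm
    apply Subgroup.eq_of_le_of_card_ge hle
    rw [hcard, ← Nat.card_congr (MonoidHom.ofInjective hinj).toEquiv, card_mu]
  refine ⟨(MonoidHom.ofInjective hinj).trans (MulEquiv.subgroupCongr heq), fun w => ?_⟩
  exact isConj_iff.mpr ⟨y, (hφ w).symm⟩

end Cfsg.Agent.GL2Char
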