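import Cfsg.Agent.GL2Char.SLBlocks
import Cfsg.Agent.CharLib.Degrees
import Cfsg.Agent.SL2.Index
import Cfsg.Agent.S2299
import Cfsg.Agent.S2325
import Cfsg.Agent.S2430
import Cfsg.Agent.S2437

/-!
# The McKay equality for `SL₂`
-/

set_option autoImplicit false

namespace Cfsg.Agent.GL2Char

open Cfsg Cfsg.Agent.CharLib
open Cfsg.Agent.SL2
open scoped commutatorElement

variable {F : Type*} [Field F] [Fintype F]

local notation "q" => Fintype.card F

theorem card_sl_degree_pred (hodd : Odd q) (hq : 5 ≤ q) (P : ℕ → Prop) [DecidablePred P] :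
    Nat.card {χ : IrrCharacter (SL2 F) // P (charDegree (χ : SL2 F → ℂ))} =
      (if P 1 then 1 else 0) + ((if P q then 1 else 0) + ((if P (q + 1) then (q - 3) / 2 else 0) +
      ((if P (q - 1) then (q - 1) / 2 else 0) + ((if P ((q + 1) / 2) then 2 else 0) +
      (if P ((q - 1) / 2) then 2 else 0))))) := by
  obtain ⟨h1, h2⟩ := Cfsg.Agent.S2299.result hodd
  obtain ⟨c1, c2, c3, c4, c5, c6⟩ := h2 hq
  have key : ∀ n : ℕ, Nat.card {χ : IrrCharacter (SL2 F) // charDegree (χ : SL2 F → ℂ) = n} =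
      Nat.card {χ : IrrCharacter (SL2 F) // (χ : SL2 F → ℂ) 1 = n} := fun n =>
    Nat.card_congr (Equiv.subtypeEquivRight fun χ => charDegree_eq_iff (isChar_of_irr χ.2) n)
  have hs : ((q - 1 : ℕ) : ℂ) = q - 1 := by rw [Nat.cast_sub (by omega), Nat.cast_one]
  obtain ⟨k, hk⟩ := hodd
  rw [card_fiber_sum (fun χ : IrrCharacter (SL2 F) => charDegree (χ : SL2 F → ℂ))
    {1, q, q + 1, q - 1, (q + 1) / 2, (q - 1) / 2} ?_ P,
    Finset.sum_insert (by simp; omega), Finset.sum_insert (by simp; omega),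
    Finset.sum_insert (by simp; omega), Finset.sum_insert (by simp; omega),
    Finset.sum_insert (by simp; omega), Finset.sum_singleton, key, key, key, key, key, key,
    Nat.cast_one, Nat.cast_succ, hs, c1, c2, c3, c4, c5, c6]
  intro χ
  simp only [Finset.mem_insert, Finset.mem_singleton, charDegree_eq_iff (isChar_of_irr χ.2)]
  rw [Nat.cast_one, Nat.cast_succ, hs]
  exact h1 _ χ.2

/-! ### The defining characteristic -/

variable (F) in
/-- The upper unitriangular matrices. -/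
def upHom : Multiplicative F →* SL2 F where
  toFun b := upT b.toAdd
  map_one' := upT_zero
  map_mul' _ _ := upT_add _ _

omit [Fintype F] in
theorem mem_upHom_range {g : SL2 F} :
    g ∈ (upHom F).range ↔ g.1 1 0 = 0 ∧ g.1 0 0 = 1 ∧ g.1 1 1 = 1 := by
  constructor
  · rintro ⟨b, rfl⟩
    exact ⟨rfl, rfl, rfl⟩
  · rintro ⟨h1, h2, h3⟩
    exact ⟨Multiplicative.ofAdd (g.1 0 1), sl_ext (m2_ext h2.symm rfl h1.symm h3.symm)⟩

theorem card_upHom_range : Nat.card (upHom F).range = q := by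
  rw [← Nat.card_congr (MonoidHom.ofInjective (f := upHom F)
    (fun a b h => upT_injective (F := F) h)).toEquiv, Nat.card_eq_fintype_card, Fintype.card_multiplicative]

omit [Fintype F] in
theorem normalizer_upHom_range :
    Subgroup.normalizer ((upHom F).range : Set (SL2 F)) = borelSL F := by
  have key : ∀ g : SL2 F, g.1 1 0 = 0 → ∀ h ∈ (upHom F).range, g * h * g⁻¹ ∈ (upHom F).range := by
    intro g hg h hh
    rw [mem_upHom_range] at hh ⊢
    have hd := sl_det g
    simp only [sl_mul_val, sl_inv_val, mul_ap, hg, hh.1, hh.2.1, hh.2.2] at hd ⊢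
    simp
    constructor
    · linear_combination hd
    · linear_combination hd
  ext g
  rw [show g ∈ borelSL F ↔ _ from Cfsg.Agent.S2437.mem_B g]
  constructor
  · intro h
    have h1 := (mem_upHom_range.mp ((Subgroup.mem_normalizer_iff.mp h (upT 1)).mp
      ⟨Multiplicative.ofAdd 1, rfl⟩)).1
    simp only [sl_mul_val, sl_inv_val, mul_ap, upT_val] at h1
    simp at h1
    have : g.1 1 0 ^ 2 = 0 := by linear_combination -h1
    exact pow_eq_zero_iff two_ne_zero |>.mp this
  · intro h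
    rw [Subgroup.mem_normalizer_iff]
    refine fun x => ⟨key g h x, fun hx => ?_⟩
    have := key g⁻¹ (by rw [sl_inv_val]; simp [h]) _ hx
    simpa [mul_assoc] using this

theorem mckay_borel (hodd : Odd q) (p : ℕ) [Fact p.Prime] [CharP F p] :
    Nat.card {χ : IrrCharacter (borelSL F) // ¬ p ∣ charDegree (χ : borelSL F → ℂ)} = q + 3 := by
  classical
  have hk := Cfsg.Agent.S2437.result hodd
  have h2 := two_ne_zero_of_odd hodd
  have hB : ∀ g : borelSL F, g.1.1 1 0 = 0 := fun g => (Cfsg.Agent.S2437.mem_B _).mp g.2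
  have hdet : ∀ g : borelSL F, g.1.1 0 0 * g.1.1 1 1 = 1 := fun g => by
    have := sl_det g.1
    rwa [hB, mul_zero, sub_zero] at this
  let d : borelSL F →* Fˣ := MonoidHom.toHomUnits
    { toFun := fun g => g.1.1 0 0
      map_one' := rfl
      map_mul' := fun a b => by
        change (a.1.1 * b.1.1) 0 0 = _
        rw [mul_ap, hB b, mul_zero, add_zero] }
  have hd : Function.Surjective d := fun a =>
    ⟨⟨dg a, (Cfsg.Agent.S2437.mem_B _).mpr (by simp [dg_val])⟩, Units.ext (by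
      change (dg a).1 0 0 = _
      simp [dg_val])⟩
  have hker : d.ker = (upHom F).range.subgroupOf (borelSL F) := by
    ext g
    rw [MonoidHom.mem_ker, Subgroup.mem_subgroupOf, mem_upHom_range, Units.ext_iff]
    change g.1.1 0 0 = 1 ↔ _
    refine ⟨fun h => ⟨hB g, h, ?_⟩, fun h => h.2.1⟩
    have := hdet g
    rwa [h, one_mul] at this
  have hcard : Nat.card (borelSL F) = q * (q - 1) := by
    rw [← Subgroup.card_mul_index d.ker, Subgroup.index_ker, MonoidHom.range_eq_top.mpr hd,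
      Subgroup.card_top, Nat.card_units, hker, Nat.card_congr (Subgroup.subgroupOfEquivOfLe
        (normalizer_upHom_range (F := F) ▸ Subgroup.le_normalizer)).toEquiv, card_upHom_range,
      Nat.card_eq_fintype_card]
  let A := (Cen (upT (1 : F))).subgroupOf (borelSL F)
  have hA : Nat.card A = 2 * q := by
    rw [Nat.card_congr (Subgroup.subgroupOfEquivOfLe _).toEquiv,
      card_cent_par_odd h2 (upT_data one_ne_zero).1 (by rw [trace_upT]; norm_num)]
    intro g hg
    rw [show g ∈ borelSL F ↔ _ from Cfsg.Agent.S2437.mem_B g]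
    have := congrArg (fun x : SL2 F => x.1 0 0) (mem_cen.mp hg)
    simpa [sl_mul_val, mul_ap, upT_val] using this
  obtain ⟨k, hk'⟩ := hodd
  have hi : A.index = k := by
    have := Subgroup.card_mul_index A
    rw [hA, hcard, show q - 1 = 2 * k by omega, ← mul_assoc, mul_comm q] at this
    exact Nat.eq_of_mul_eq_mul_left (by omega) this
  have hlin : q - 1 ≤
      Nat.card {χ : IrrCharacter (borelSL F) // charDegree (χ : borelSL F → ℂ) = 1} := by
    have : Finite (borelSL F →* ℂˣ) := Finite.of_equiv _ (linearEquiv _).symm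
    rw [card_degree_one_eq_card_hom, ← Nat.card_eq_fintype_card, ← Nat.card_units,
      ← card_hom_cyclic]
    exact Nat.card_le_card_of_injective (fun l => l.comp d)
      fun l l' h => (MonoidHom.cancel_right hd).mp h
  have hq : 1 < q := Fintype.one_lt_card
  refine (card_irr_all (fun n => ¬ p ∣ n) fun χ => ?_).trans hk
  rcases degree_eq_one_or (h := k) (fun χ => hi ▸ charDegree_le_index_of_comm A
    (fun a b => Subtype.ext (Subtype.ext (cent_comm (upT_data one_ne_zero).1 a.2 b.2))) χ.2) hlin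
    (by
      rw [show Nat.card (ConjClasses (borelSL F)) = _ from hk, hcard, hk']
      obtain ⟨m, rfl⟩ : ∃ m, k = m + 1 := ⟨k - 1, by omega⟩
      rw [show (m + 1) ^ 2 - 1 = m * m + 2 * m by
        rw [Nat.sub_eq_iff_eq_add (Nat.one_le_pow _ _ (by omega))]; ring, Nat.add_sub_cancel]
      apply le_of_eq
      ring) χ with h | h
  · rw [h]; exact (Fact.out : p.Prime).not_dvd_one
  · rw [h]
    intro h3
    exact not_char_dvd_card_sub_one (F := F) p (by
      rw [show q - 1 = 2 * k by omega]; exact h3.mul_left 2)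

theorem mckay_char (hodd : Odd q) (p : ℕ) [Fact p.Prime] [CharP F p] (S : Sylow p (SL2 F)) :
    Nat.card {χ : IrrCharacter (SL2 F) // ¬ p ∣ charDegree (χ : SL2 F → ℂ)} =
      Nat.card {ψ : IrrCharacter (Subgroup.normalizer ((S : Subgroup (SL2 F)) : Set (SL2 F))) //
        ¬ p ∣ charDegree (ψ : Subgroup.normalizer ((S : Subgroup (SL2 F)) : Set (SL2 F)) → ℂ)} := by
  classical
  obtain ⟨n, -, hn⟩ := FiniteField.card F p
  have hU : IsPGroup p (upHom F).range := IsPGroup.of_card (card_upHom_range.trans hn)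
  have hi : ¬ p ∣ (upHom F).range.index := by
    have := Subgroup.card_mul_index (upHom F).range
    rw [card_upHom_range, card_sl, Nat.mul_right_inj Fintype.card_ne_zero] at this
    rw [this]
    exact not_dvd_q_sq_sub_one F p
  obtain ⟨e⟩ := sylow_normalizer_equiv (hU.toSylow hi) S
  rw [card_irr_degree_congr ((MulEquiv.subgroupCongr normalizer_upHom_range.symm).trans e)
    (fun n => ¬ p ∣ n), mckay_borel hodd]
  have h1 := card_subtype_not (fun χ : IrrCharacter (SL2 F) => (χ : SL2 F → ℂ) 1 = q)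
  rw [card_sl_degree_q, card_irr_eq_card_conjClasses, Cfsg.Agent.S2325.result hodd] at h1
  have key : ∀ χ : IrrCharacter (SL2 F), ¬ p ∣ charDegree (χ : SL2 F → ℂ) ↔
      ¬ (χ : SL2 F → ℂ) 1 = q := by
    intro χ
    constructor
    · intro h h2
      apply h
      rw [charDegree_eq h2]; exact char_dvd_q F p
    · intro h
      obtain ⟨m, hm, hm'⟩ := sl_degree_not_dvd p χ.2 h
      rwa [charDegree_eq hm]
  exact (Nat.card_congr (Equiv.subtypeEquivRight key)).trans (h1.trans rfl)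

/-! ### Odd primes different from the characteristic -/

theorem mckay_odd (hodd : Odd q) (l : ℕ) [Fact l.Prime] (hl : l ≠ 2)
    (hd : l ∣ q - 1 ∨ l ∣ q + 1) (S : Sylow l (SL2 F)) :
    Nat.card {χ : IrrCharacter (SL2 F) // ¬ l ∣ charDegree (χ : SL2 F → ℂ)} =
      Nat.card {ψ : IrrCharacter (Subgroup.normalizer ((S : Subgroup (SL2 F)) : Set (SL2 F))) //
        ¬ l ∣ charDegree (ψ : Subgroup.normalizer ((S : Subgroup (SL2 F)) : Set (SL2 F)) → ℂ)} := by
  have hp : l.Prime := Fact.out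
  have h3 : 3 ≤ l := by have := hp.two_le; omega
  obtain ⟨x, hx, ho, -, hN⟩ := Cfsg.Agent.S2430.key l hl S hd
  rw [← card_irr_degree_congr (MulEquiv.subgroupCongr hN) (fun n => ¬ l ∣ n),
    card_irr_all (G := NCen x) (fun n => ¬ l ∣ n)]
  swap
  · intro χ h
    have h1 := charDegree_le_index_of_comm ((Cen x).subgroupOf (NCen x))
      (fun a b => Subtype.ext (Subtype.ext (cent_comm (sl_not_isScal_of_disc hx) a.2 b.2))) χ.2
    rw [index_cen_ncen hx] at h1
    have := Nat.le_of_dvd (charDegree_pos χ.2) h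
    omega
  have hk := card_conjClasses_ncen (two_ne_zero_of_odd hodd) hx
  have hq : 1 < q := Fintype.one_lt_card
  obtain ⟨k, hk'⟩ := id hodd
  have e1 : q - 1 = 2 * k := by omega
  have e2 : q + 1 = 2 * (k + 1) := by omega
  have hc : l.Coprime 2 := (Nat.coprime_primes hp Nat.prime_two).mpr hl
  have n1 : ¬ l ∣ 1 := hp.not_dvd_one
  rcases ell_or_spl_one hx with h | h
  · have d1 : l ∣ q + 1 := ho ▸ orderOf_dvd_of_pow_eq_one (pow_of_ell h)
    have d2 : l ∣ k + 1 := hc.dvd_of_dvd_mul_left (e2 ▸ d1)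
    have d3 : ¬ l ∣ k := fun h => n1 ((Nat.dvd_add_right h).mp d2)
    have d4 : ¬ l ∣ q := fun h => n1 ((Nat.dvd_add_right h).mp d1)
    have d5 : ¬ l ∣ q - 1 := fun h => d3 (hc.dvd_of_dvd_mul_left (e1 ▸ h))
    have := Nat.le_of_dvd (by omega) d2
    rw [card_cent_ell h] at hk
    rw [card_sl_degree_pred hodd (by omega) (fun n => ¬ l ∣ n), show (q + 1) / 2 = k + 1 by omega,
      show (q - 1) / 2 = k by omega]
    simp only [n1, d1, d2, d3, d4, d5, not_true, not_false_iff, if_true, if_false]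
    omega
  · have d1 : l ∣ q - 1 := ho ▸ orderOf_dvd_of_pow_eq_one (pow_of_spl h)
    have d2 : l ∣ k := hc.dvd_of_dvd_mul_left (e1 ▸ d1)
    have d3 : ¬ l ∣ k + 1 := fun h => n1 ((Nat.dvd_add_right d2).mp h)
    have d4 : ¬ l ∣ q := fun h => n1 ((Nat.dvd_sub_iff_right (by omega) h).mp d1)
    have d5 : ¬ l ∣ q + 1 := fun h => d3 (hc.dvd_of_dvd_mul_left (e2 ▸ h))
    have := Nat.le_of_dvd (by omega) d2
    rw [card_cent_spl h] at hk
    rw [card_sl_degree_pred hodd (by omega) (fun n => ¬ l ∣ n), show (q + 1) / 2 = k + 1 by omega,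
      show (q - 1) / 2 = k by omega]
    simp only [n1, d1, d2, d3, d4, d5, not_true, not_false_iff, if_true, if_false]
    omega

/-! ### The prime two -/

theorem card_sl_odd_degree (hodd : Odd q) (hq : 5 ≤ q) :
    Nat.card {χ : IrrCharacter (SL2 F) // ¬ 2 ∣ charDegree (χ : SL2 F → ℂ)} = 4 := by
  obtain ⟨k, hk⟩ := id hodd
  rw [card_sl_degree_pred hodd hq (fun n => ¬ 2 ∣ n)]
  split_ifs <;> omega

omit [Fintype F] in
theorem neg_one_mem_of_two_pow (h2 : (2 : F) ≠ 0) {H : Subgroup (SL2 F)} {k : ℕ} :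
    ∀ z ∈ H, z ≠ 1 → z ^ 2 ^ k = 1 → (-1 : SL2 F) ∈ H := by
  induction k with
  | zero => intro z _ h1 h; exact absurd (by simpa using h) h1
  | succ k ih =>
    intro z hz h1 h
    by_cases h3 : z * z = 1
    · rw [← (sl_isScal_iff.mp (isScal_of_sq_eq_one h2 h3)).resolve_left h1]
      exact hz
    · exact ih _ (H.mul_mem hz hz) h3 (by rw [← sq, ← pow_mul, ← pow_succ', h])

theorem exists_sylow_two_le_ncen (hodd : Odd q) (S : Sylow 2 (SL2 F)) :
    ∃ s : SL2 F, s.1.trace = 0 ∧ (S : Subgroup (SL2 F)) ≤ NCen s := by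
  have h2 := two_ne_zero_of_odd hodd
  have hs := disc_of_trace_zero h2 (trace_cmp (0 : F))
  have hi : ¬ 2 ∣ (NCen (cmp (0 : F))).index := by
    have h3 := two_mul_index_ncen hs
    obtain ⟨k, hk⟩ := hodd
    rintro ⟨m, hm⟩
    rw [hm, ← mul_assoc] at h3
    have hc : Nat.Coprime (2 * 2) q := by
      rw [hk]; exact Nat.Coprime.mul_left (by simp) (by simp)
    rcases ell_or_spl_one hs with h | h
    · rw [index_cen_ell h] at h3
      rw [trace_cmp, ell_zero_iff h2] at h
      have := hc.dvd_of_dvd_mul_left ⟨m, h3.symm⟩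
      omega
    · rw [index_cen_spl h] at h3
      rw [trace_cmp, spl_zero_iff h2] at h
      have := hc.dvd_of_dvd_mul_left ⟨m, h3.symm⟩
      omega
  obtain ⟨Q⟩ : Nonempty (Sylow 2 (NCen (cmp (0 : F)))) := inferInstance
  have hQ : ¬ 2 ∣ ((Q : Subgroup (NCen (cmp (0 : F)))).map (NCen (cmp (0 : F))).subtype).index := by
    rw [Subgroup.index_map_subtype]
    exact fun h => (Nat.prime_two.dvd_mul.mp h).elim Q.not_dvd_index hi
  obtain ⟨g, hg⟩ := MulAction.exists_smul_eq (SL2 F) ((Q.isPGroup'.map _).toSylow hQ) S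
  refine ⟨g * SL2.cmp 0 * g⁻¹, by rw [sl_trace_conj, trace_cmp], ?_⟩
  rw [← hg]
  rintro _ ⟨_, ⟨y, -, rfl⟩, rfl⟩
  rw [mem_ncen_iff (by rwa [sl_trace_conj])]
  change (g * y * g⁻¹) * _ * (g * y * g⁻¹)⁻¹ = _ ∨ (g * y * g⁻¹) * _ * (g * y * g⁻¹)⁻¹ = _
  rcases (mem_ncen_iff hs).mp y.2 with h | h
  · left
    conv_rhs => rw [← h]
    group
  · right
    rw [conj_inv (a := SL2.cmp 0), ← h]
    group

theorem card_odd_degree_sylow_two (hodd : Odd q) (S : Sylow 2 (SL2 F)) :
    Nat.card {χ : IrrCharacter S // ¬ 2 ∣ charDegree (χ : S → ℂ)} = 4 := by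
  have h2 := two_ne_zero_of_odd hodd
  obtain ⟨s, hs0, hS⟩ := exists_sylow_two_le_ncen hodd S
  have hs := disc_of_trace_zero h2 hs0
  have hs' := sl_not_isScal_of_disc hs
  let A : Subgroup S := (Cen s).subgroupOf (S : Subgroup (SL2 F))
  have hnle : ¬ (S : Subgroup (SL2 F)) ≤ Cen s := fun h =>
    S.not_dvd_index ((Dvd.intro _ (two_mul_index_ncen hs)).trans (Subgroup.index_dvd_of_le h))
  obtain ⟨w, hw, hw'⟩ := SetLike.not_le_iff_exists.mp hnle
  have hi : A.index = 2 := by
    rw [Subgroup.index_eq_two_iff]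
    refine ⟨⟨w, hw⟩, fun b => ?_⟩
    have hw2 := inverts_of_mem_ncen hs (hS hw) hw'
    by_cases hb : b ∈ A
    · exact Or.inr ⟨hb, not_mem_cen_of_inverts hs (mul_inverts_of_mem_cen hw2 hb)⟩
    · exact Or.inl ⟨mul_mem_cen_of_inverts hw2 (inverts_of_mem_ncen hs (hS b.2) hb), hb⟩
  have hcomm : ∀ a ∈ A, ∀ b ∈ A, a * b = b * a := fun a ha b hb => Subtype.ext (cent_comm hs' ha hb)
  have hk := card_conjClasses_of_inverting (G := S) A hi hcomm fun g hg a ha =>
    Subtype.ext (inv_of_inverts hs' (inverts_of_mem_ncen hs (hS g.2) hg) ha)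
  have hm : (-1 : SL2 F) ∈ (S : Subgroup (SL2 F)) := by
    obtain ⟨k, hk⟩ := S.isPGroup' ⟨w, hw⟩
    exact neg_one_mem_of_two_pow h2 w hw (fun h => hw' (h ▸ one_mem _)) (congrArg Subtype.val hk)
  have e : Nat.card {a : S // a ∈ A ∧ a * a = 1} = 2 := by
    rw [Nat.card_eq_two_iff]
    refine ⟨⟨1, one_mem _, mul_one _⟩, ⟨⟨-1, hm⟩, neg_one_mem_cent s, Subtype.ext (by simp)⟩,
      fun h => sl_neg_ne_self h2 1 (congrArg (fun x => x.1.1) h).symm, ?_⟩
    ext a
    simp only [Set.mem_insert_iff, Set.mem_singleton_iff, Set.mem_univ, iff_true, Subtype.ext_iff]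
    exact sl_isScal_iff.1 (isScal_of_sq_eq_one h2 (congrArg Subtype.val a.2.2))
  have hle : ∀ χ : IrrCharacter S, charDegree (χ : S → ℂ) ≤ 2 := fun χ =>
    (charDegree_le_index_of_comm A (fun a b => Subtype.ext (hcomm _ a.2 _ b.2)) χ.2).trans hi.le
  have h3 := three_mul_card_degree_one hle
  have h4 := Subgroup.card_mul_index A
  replace hk := hk.trans (congrArg (fun n => Nat.card A + 3 * n) e)
  beta_reduce at hk
  rw [hi] at h4
  have h5 : ∀ χ : IrrCharacter S, ¬ 2 ∣ charDegree (χ : S → ℂ) ↔ charDegree (χ : S → ℂ) = 1 := by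
    intro χ
    have := hle χ
    have := charDegree_pos χ.2
    omega
  rw [Nat.card_congr (Equiv.subtypeEquivRight h5)]
  omega

omit [Fintype F] in
theorem card_odd_degree_of_card (h2 : (2 : F) ≠ 0) (S : Sylow 2 (SL2 F))
    (hC : Subgroup.centralizer ((S : Subgroup (SL2 F)) : Set (SL2 F)) = Subgroup.center (SL2 F))
    (hN : Nat.card (Subgroup.normalizer ((S : Subgroup (SL2 F)) : Set (SL2 F))) = 24) :
    Nat.card {χ : IrrCharacter (Subgroup.normalizer ((S : Subgroup (SL2 F)) : Set (SL2 F))) //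
      ¬ 2 ∣ charDegree (χ : Subgroup.normalizer ((S : Subgroup (SL2 F)) : Set (SL2 F)) → ℂ)}
      = 4 := by
  classical
  set N := Subgroup.normalizer ((S : Subgroup (SL2 F)) : Set (SL2 F))
  have : Finite N := Nat.finite_of_card_ne_zero (by omega)
  have h3 := card_odd_degree_mod (G := N)
  have h4 := card_odd_degree_le (G := N)
  have h5 := card_degree_pos (G := N) (fun n => ¬ 2 ∣ n) (by norm_num)
  rw [card_degree_one] at h4
  suffices h : 5 ≤ Nat.card (commutator N) by
    have h6 := Subgroup.card_mul_index (commutator N)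
    have h7 := Nat.mul_le_mul_right (commutator N).index h
    omega
  have : Fact (Nat.Prime 3) := ⟨Nat.prime_three⟩
  obtain ⟨t, ht⟩ := exists_prime_orderOf_dvd_card' (G := N) 3 (by rw [hN]; norm_num)
  have ht3 : (t : SL2 F) ^ 3 = 1 := by
    rw [← SubmonoidClass.coe_pow, ← ht, pow_orderOf_eq_one]; rfl
  have htC : (t : SL2 F) ∉ Subgroup.centralizer ((S : Subgroup (SL2 F)) : Set (SL2 F)) := by
    rw [hC, sl_mem_center_iff]
    intro h
    have := orderOf_dvd_of_pow_eq_one (sq_eq_one_of_isScal h)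
    rw [Subgroup.orderOf_coe, ht] at this
    norm_num at this
  rw [Subgroup.mem_centralizer_iff] at htC
  push Not at htC
  obtain ⟨s, hs, hts⟩ := htC
  set C := (commutator N).map N.subtype with hCdef
  have hCn : ∀ z ∈ C, (t : SL2 F) * z * (t : SL2 F)⁻¹ ∈ C := by
    rintro _ ⟨z, hz, rfl⟩
    exact ⟨t * z * t⁻¹, (inferInstance : (commutator N).Normal).conj_mem _ hz t, rfl⟩
  set z : SL2 F := t * s * (t : SL2 F)⁻¹ * s⁻¹ with hz
  have hzC : z ∈ C := ⟨⁅t, ⟨s, Subgroup.le_normalizer hs⟩⁆,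
    Subgroup.commutator_mem_commutator (Subgroup.mem_top _) (Subgroup.mem_top _), rfl⟩
  have hzS : z ∈ (S : Subgroup (SL2 F)) :=
    mul_mem ((Subgroup.mem_normalizer_iff.mp t.2 s).mp hs) (inv_mem hs)
  have hz1 : z ≠ 1 := fun h => hts (by
    rw [hz, mul_inv_eq_one, mul_inv_eq_iff_eq_mul] at h; exact h.symm)
  obtain ⟨k, hk⟩ := S.isPGroup' ⟨z, hzS⟩
  have hk' : z ^ 2 ^ k = 1 := congrArg Subtype.val hk
  have hm := neg_one_mem_of_two_pow h2 z hzC hz1 hk'
  let c := MulAut.conj (t : SL2 F)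
  have hc3 : ∀ x, c (c (c x)) = x := fun x => by
    have : c ^ 3 = 1 := by rw [← map_pow, ht3, map_one]
    simpa [pow_succ] using DFunLike.congr_fun this x
  have hcs : c s = z * s := by simp [c, hz]
  have hcz : c z ≠ z := by
    intro h
    have h6 := hc3 s
    simp only [hcs, map_mul, h] at h6
    have h7 : z ^ 3 = 1 := by
      rw [← mul_left_inj s, one_mul, pow_three, mul_assoc z, mul_assoc z, h6]
    have h8 := Nat.dvd_gcd (orderOf_dvd_of_pow_eq_one h7) (orderOf_dvd_of_pow_eq_one hk')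
    rw [Nat.Coprime.pow_right k (by norm_num), Nat.dvd_one, orderOf_eq_one_iff] at h8
    exact hz1 h8
  have hfix : ∀ x, c x = x → z ≠ x ∧ c z ≠ x ∧ c (c z) ≠ x := by
    intro x hx
    have : z ≠ x := fun h => hcz (by rw [h, hx])
    exact ⟨this, fun h => this (c.injective (h.trans hx.symm)),
      fun h => this (c.injective (c.injective (by rw [h, hx, hx])))⟩
  obtain ⟨a1, a2, a3⟩ := hfix 1 (map_one c)
  obtain ⟨b1, b2, b3⟩ := hfix (-1) (by simp [c])
  have c1 : c (c z) ≠ c z := fun h => hcz (c.injective h)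
  have c2 : c (c z) ≠ z := fun h => hcz (by
    have := congrArg c h
    rw [hc3] at this
    exact this.symm)
  have c3 : (-1 : SL2 F) ≠ 1 := sl_neg_ne_self h2 1
  rw [← Subgroup.card_map_of_injective N.subtype_injective, ← hCdef]
  have hfin : Finite C := Finite.of_surjective _ (MonoidHom.subgroupMap_surjective _ _)
  have h6 : ({c (c z), c z, z, -1, 1} : Set (SL2 F)) ⊆ C := by
    intro x hx
    simp only [Set.mem_insert_iff, Set.mem_singleton_iff] at hx
    rcases hx with rfl | rfl | rfl | rfl | rfl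
    · exact hCn _ (hCn _ hzC)
    · exact hCn _ hzC
    · exact hzC
    · exact hm
    · exact one_mem _
  have h7 := Set.ncard_le_ncard h6 (Set.toFinite _)
  rw [Set.ncard_insert_of_notMem (by simp [c1, c2, a3, b3]),
    Set.ncard_insert_of_notMem (by simp [hcz, a2, b2]),
    Set.ncard_insert_of_notMem (by simp [a1, b1]), Set.ncard_pair c3] at h7
  exact h7

theorem card_sylow_two_eq_eight (h : q % 8 = 3 ∨ q % 8 = 5) (S : Sylow 2 (SL2 F)) :
    Nat.card S = 8 := by
  have h1 := Subgroup.card_mul_index (S : Subgroup (SL2 F))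
  obtain ⟨m, hm⟩ : ∃ m, q * (q ^ 2 - 1) = 8 * (2 * m + 1) := by
    rcases h with h | h
    · obtain ⟨k, hk⟩ : ∃ k, q = 8 * k + 3 := ⟨q / 8, by omega⟩
      refine ⟨32 * k ^ 3 + 36 * k ^ 2 + 13 * k + 1, ?_⟩
      rw [sq_sub_one_eq, hk, show 8 * k + 3 - 1 = 8 * k + 2 by omega]
      ring
    · obtain ⟨k, hk⟩ : ∃ k, q = 8 * k + 5 := ⟨q / 8, by omega⟩
      refine ⟨32 * k ^ 3 + 60 * k ^ 2 + 37 * k + 7, ?_⟩
      rw [sq_sub_one_eq, hk, show 8 * k + 5 - 1 = 8 * k + 4 by omega]
      ring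
  rw [S.card_eq_multiplicity, card_sl, hm, Nat.factorization_mul (by norm_num) (by omega),
    Finsupp.add_apply, Nat.factorization_eq_zero_of_not_dvd (n := 2 * m + 1) (by omega),
    show 8 = 2 ^ 3 by norm_num, Nat.prime_two.factorization_pow]
  simp

theorem mckay_of_normalizer_eq_top {G : Type*} [Group G] (P : ℕ → Prop) {N : Subgroup G}
    (h : N = ⊤) : Nat.card {χ : IrrCharacter G // P (charDegree (χ : G → ℂ))} =
      Nat.card {ψ : IrrCharacter N // P (charDegree (ψ : N → ℂ))} :=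
  card_irr_degree_congr ((MulEquiv.subgroupCongr h).trans Subgroup.topEquiv) P

theorem mckay_two (hodd : Odd q) (S : Sylow 2 (SL2 F))
    (hC : Subgroup.centralizer ((S : Subgroup (SL2 F)) : Set (SL2 F)) = Subgroup.center (SL2 F))
    (h1 : q % 8 = 1 ∨ q % 8 = 7 →
      Subgroup.normalizer ((S : Subgroup (SL2 F)) : Set (SL2 F)) = (S : Subgroup (SL2 F)))
    (h2 : q % 8 = 3 ∨ q % 8 = 5 →
      Nat.card (Subgroup.normalizer ((S : Subgroup (SL2 F)) : Set (SL2 F))) = 3 * Nat.card S) :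
    Nat.card {χ : IrrCharacter (SL2 F) // ¬ 2 ∣ charDegree (χ : SL2 F → ℂ)} =
      Nat.card {ψ : IrrCharacter (Subgroup.normalizer ((S : Subgroup (SL2 F)) : Set (SL2 F))) //
        ¬ 2 ∣ charDegree (ψ : Subgroup.normalizer ((S : Subgroup (SL2 F)) : Set (SL2 F)) → ℂ)} := by
  have hq : 1 < q := Fintype.one_lt_card
  obtain ⟨k, hk⟩ := id hodd
  by_cases h3 : q = 3
  · refine mckay_of_normalizer_eq_top (fun n => ¬ 2 ∣ n) ?_
    rw [← Subgroup.card_eq_iff_eq_top, h2 (by omega), card_sylow_two_eq_eight (by omega), card_sl,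
      h3]
    norm_num
  rw [card_sl_odd_degree hodd (by omega)]
  by_cases h4 : q % 8 = 1 ∨ q % 8 = 7
  · rw [← card_irr_degree_congr (MulEquiv.subgroupCongr (h1 h4)) (fun n => ¬ 2 ∣ n),
      card_odd_degree_sylow_two hodd]
  · rw [card_odd_degree_of_card (two_ne_zero_of_odd hodd) S hC
      (by rw [h2 (by omega), card_sylow_two_eq_eight (by omega)])]

theorem mckay_of_two (hodd : Odd q) (l : ℕ) [Fact l.Prime] (hl : l ≠ 2) (S : Sylow l (SL2 F)) :
    Nat.card {χ : IrrCharacter (SL2 F) // ¬ l ∣ charDegree (χ : SL2 F → ℂ)} =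
      Nat.card {ψ : IrrCharacter (Subgroup.normalizer ((S : Subgroup (SL2 F)) : Set (SL2 F))) //
        ¬ l ∣ charDegree (ψ : Subgroup.normalizer ((S : Subgroup (SL2 F)) : Set (SL2 F)) → ℂ)} := by
  have hp : l.Prime := Fact.out
  by_cases h1 : l ∣ q - 1 ∨ l ∣ q + 1
  · exact mckay_odd hodd l hl h1 S
  by_cases h2 : l ∣ q
  · obtain ⟨p, hp', n, hpp, hn⟩ := FiniteField.card' F
    obtain rfl : l = p :=
      (Nat.prime_dvd_prime_iff_eq hp hpp).mp (hp.dvd_of_dvd_pow (hn ▸ h2))
    exact mckay_char hodd l S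
  refine mckay_of_normalizer_eq_top (fun n => ¬ l ∣ n) ?_
  have h3 : ¬ l ∣ Nat.card (SL2 F) := by
    rw [card_sl, sq_sub_one_eq, hp.dvd_mul, hp.dvd_mul]
    tauto
  have h4 : (S : Subgroup (SL2 F)) = ⊥ := by
    rw [← Subgroup.card_eq_one, S.card_eq_multiplicity, Nat.factorization_eq_zero_of_not_dvd h3,
      pow_zero]
  rw [h4]
  exact Subgroup.normalizer_eq_top _

end Cfsg.Agent.GL2Char
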