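import Cfsg.Agent.GL2Char.Vals
import Cfsg.Prelude.Def_ParabolicCharacters

/-!
# Principal series of `GL₂` and `SL₂`, and characters induced from the non-split torus
-/

set_option autoImplicit false

namespace Cfsg.Agent.GL2Char

open Cfsg Cfsg.Agent.CharLib
open scoped ComplexConjugate

theorem indFun_eq_sum_transversal {G : Type*} [Group G] [Fintype G] (H : Subgroup G) {θ : H → ℂ}
    (hθ : IsClassFunction H θ) {ι : Type*} [Fintype ι] (t : ι → G)
    (ht : ∀ g : G, ∃! i, (t i)⁻¹ * g ∈ H) (g : G) :
    indFun H θ g = ∑ i, extendByZero H θ ((t i)⁻¹ * g * t i) := by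
  classical
  have := Fintype.ofFinite H
  have hb : Function.Bijective (fun x : ι × H => t x.1 * x.2) := by
    constructor
    · rintro ⟨i, h⟩ ⟨j, k⟩ hij
      simp only at hij
      have h1 : i = j := by
        refine (ht (t i * h)).unique (by simp) ?_
        rw [hij]; simp
      subst h1
      rw [mul_left_cancel_iff] at hij
      exact Prod.ext rfl (Subtype.ext hij)
    · intro x
      obtain ⟨i, hi, -⟩ := ht x
      exact ⟨(i, ⟨_, hi⟩), by simp⟩
  have h2 : ∀ (y : G) (h : H), extendByZero H θ ((h : G)⁻¹ * y * h) = extendByZero H θ y := by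
    intro y h
    by_cases hy : y ∈ H
    · have hy' : (h : G)⁻¹ * y * h ∈ H := H.mul_mem (H.mul_mem (H.inv_mem h.2) hy) h.2
      rw [extendByZero_of_mem H θ hy, extendByZero_of_mem H θ hy', ← hθ ⟨y, hy⟩ h⁻¹]
      congr 1
      apply Subtype.ext
      simp
    · rw [extendByZero_of_not_mem H θ hy, extendByZero_of_not_mem]
      intro hc
      apply hy
      have := H.mul_mem (H.mul_mem h.2 hc) (H.inv_mem h.2)
      simpa [mul_assoc] using this
  unfold indFun
  rw [← hb.sum_comp, Fintype.sum_prod_type]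
  have h3 : ∀ (i : ι) (h : H), extendByZero H θ ((t i * h)⁻¹ * g * (t i * h)) =
      extendByZero H θ ((t i)⁻¹ * g * t i) := by
    intro i h
    rw [← h2 ((t i)⁻¹ * g * t i) h]
    congr 1
    group
  simp only [h3, Finset.sum_const, Finset.card_univ, nsmul_eq_mul, ← Finset.mul_sum]
  rw [← Nat.card_eq_fintype_card, ← mul_assoc, inv_mul_cancel₀ card_ne_zero, one_mul]

variable {F K : Type*} [Field F] [Fintype F] [DecidableEq F] [Field K] [Fintype K] [Algebra F K]
  [hK : Fact (Module.finrank F K = 2)]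

local notation "q" => Fintype.card F

omit [Fintype F] [DecidableEq F] in
theorem mem_borel {g : GL2 F} : g ∈ upperTriangularGL 2 F ↔ (g : Mat F) 1 0 = 0 := by
  change (g : Mat F).BlockTriangular id ↔ _
  constructor
  · intro h
    exact h (by simp)
  · intro h i j hij
    fin_cases i <;> fin_cases j <;> simp_all

/-- The Borel subgroup of `SL₂`. -/
abbrev borelSL (F : Type*) [Field F] : Subgroup (SL2 F) :=
  (upperTriangularGL 2 F).comap Matrix.SpecialLinearGroup.toGL

omit [Fintype F] [DecidableEq F] in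
theorem mem_borelSL {g : SL2 F} : g ∈ borelSL F ↔ (g : Mat F) 1 0 = 0 := mem_borel

/-- Coset representatives for the Borel subgroup. -/
def cosetRep (F : Type*) [Field F] : Option F → SL2 F
  | none => ⟨!![0, -1; 1, 0], by simp [Matrix.det_fin_two]⟩
  | some c => ⟨!![1, 0; c, 1], by simp [Matrix.det_fin_two]⟩

omit [Fintype F] [DecidableEq F] in
theorem cosetRep_none_inv : (((cosetRep F none)⁻¹ : SL2 F) : Mat F) = !![0, 1; -1, 0] := by
  rw [Matrix.SpecialLinearGroup.coe_inv]
  simp [cosetRep, Matrix.adjugate_fin_two]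

omit [Fintype F] [DecidableEq F] in
theorem cosetRep_some_inv (c : F) :
    (((cosetRep F (some c))⁻¹ : SL2 F) : Mat F) = !![1, 0; -c, 1] := by
  rw [Matrix.SpecialLinearGroup.coe_inv]
  simp [cosetRep, Matrix.adjugate_fin_two]

omit [Fintype F] [DecidableEq F] in
theorem cosetRep_unique (g : GL2 F) :
    ∃! i, (Matrix.SpecialLinearGroup.toGL (cosetRep F i))⁻¹ * g ∈ upperTriangularGL 2 F := by
  have key : ∀ i, (Matrix.SpecialLinearGroup.toGL (cosetRep F i))⁻¹ * g ∈ upperTriangularGL 2 F ↔
      ((((cosetRep F i)⁻¹ : SL2 F) : Mat F) * (g : Mat F)) 1 0 = 0 := by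
    intro i
    rw [mem_borel, ← map_inv]
    rfl
  have hn : (Matrix.SpecialLinearGroup.toGL (cosetRep F none))⁻¹ * g ∈ upperTriangularGL 2 F ↔
      (g : Mat F) 0 0 = 0 := by
    rw [key, cosetRep_none_inv]
    simp [Matrix.mul_apply]
  have hs : ∀ c, (Matrix.SpecialLinearGroup.toGL (cosetRep F (some c)))⁻¹ * g ∈
      upperTriangularGL 2 F ↔ (g : Mat F) 1 0 = c * (g : Mat F) 0 0 := by
    intro c
    rw [key, cosetRep_some_inv]
    simp only [Matrix.mul_apply, Fin.sum_univ_two]
    simp
    constructor <;> intro h <;> linear_combination h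
  by_cases h : (g : Mat F) 0 0 = 0
  · refine ⟨none, hn.mpr h, ?_⟩
    rintro (_ | c) hc
    · rfl
    · exfalso
      have h1 := (hs c).mp hc
      apply g.det_ne_zero
      rw [Matrix.det_fin_two, h1, h]; ring
  · refine ⟨some ((g : Mat F) 1 0 / (g : Mat F) 0 0), (hs _).mpr (by field_simp), ?_⟩
    rintro (_ | c) hc
    · exact absurd (hn.mp hc) h
    · rw [(hs c).mp hc]
      congr 1
      field_simp

/-- The explicit formula for a principal series character. -/
noncomputable def psVal (φ : F → F → ℂ) (M : Mat F) : ℂ :=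
  (if M 0 1 = 0 then φ (M 1 1) (M 0 0) else 0) +
    ∑ t, if M 1 0 + (M 1 1 - M 0 0) * t - M 0 1 * t ^ 2 = 0 then
      φ (M 0 0 + M 0 1 * t) (M 1 1 - M 0 1 * t) else 0

omit [Fintype F] [DecidableEq F] in
theorem borel_mul_00 (a b : upperTriangularGL 2 F) :
    ((a * b : upperTriangularGL 2 F) : GL2 F).val 0 0 = (a : GL2 F).val 0 0 * (b : GL2 F).val 0 0 := by
  simp [Matrix.mul_apply, mem_borel.mp b.2]

omit [Fintype F] [DecidableEq F] in
theorem borel_mul_11 (a b : upperTriangularGL 2 F) :
    ((a * b : upperTriangularGL 2 F) : GL2 F).val 1 1 = (a : GL2 F).val 1 1 * (b : GL2 F).val 1 1 := by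
  simp [Matrix.mul_apply, mem_borel.mp a.2]

/-- The linear character of the Borel subgroup attached to two multiplicative characters. -/
noncomputable def borelChar (α β : MulChar F ℂ) : upperTriangularGL 2 F → ℂ :=
  fun b => α (((b : GL2 F) : Mat F) 0 0) * β (((b : GL2 F) : Mat F) 1 1)

omit [Fintype F] [DecidableEq F] in
theorem isIrr_borelChar (α β : MulChar F ℂ) : IsIrrCharacter _ (borelChar α β) := by
  refine isIrr_of_mul (by simp [borelChar]) fun a b => ?_
  simp only [borelChar, borel_mul_00, borel_mul_11, map_mul]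
  ring

/-- The principal series character of `GL₂`. -/
noncomputable def ps (α β : MulChar F ℂ) : GL2 F → ℂ :=
  indFun (upperTriangularGL 2 F) (borelChar α β)

theorem isChar_ps (α β : MulChar F ℂ) : IsCharacter _ (ps α β) :=
  isChar_indFun _ (isChar_of_irr (isIrr_borelChar α β))

omit [Fintype F] in
theorem extendByZero_borel (φ : F → F → ℂ) (g : GL2 F) :
    extendByZero (upperTriangularGL 2 F)
      (fun b => φ (((b : GL2 F) : Mat F) 0 0) (((b : GL2 F) : Mat F) 1 1)) g =
      if (g : Mat F) 1 0 = 0 then φ ((g : Mat F) 0 0) ((g : Mat F) 1 1) else 0 := by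
  split_ifs with h
  · rw [extendByZero_of_mem _ _ (mem_borel.mpr h)]
  · rw [extendByZero_of_not_mem _ _ (fun hh => h (mem_borel.mp hh))]

omit [Fintype F] in
theorem extendByZero_borelSL (φ : F → F → ℂ) (g : SL2 F) :
    extendByZero (borelSL F)
      (fun b => φ (((b : SL2 F) : Mat F) 0 0) (((b : SL2 F) : Mat F) 1 1)) g =
      if (g : Mat F) 1 0 = 0 then φ ((g : Mat F) 0 0) ((g : Mat F) 1 1) else 0 := by
  split_ifs with h
  · rw [extendByZero_of_mem _ _ (mem_borelSL.mpr h)]
  · rw [extendByZero_of_not_mem _ _ (fun hh => h (mem_borelSL.mp hh))]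

theorem sum_cosetRep (φ : F → F → ℂ) (M : Mat F) :
    (∑ i : Option F, if ((((cosetRep F i)⁻¹ : SL2 F) : Mat F) * M * (cosetRep F i : Mat F)) 1 0 = 0
      then φ (((((cosetRep F i)⁻¹ : SL2 F) : Mat F) * M * (cosetRep F i : Mat F)) 0 0)
        (((((cosetRep F i)⁻¹ : SL2 F) : Mat F) * M * (cosetRep F i : Mat F)) 1 1) else 0) =
      psVal φ M := by
  rw [Fintype.sum_option, psVal]
  congr 1
  · have : (((cosetRep F none)⁻¹ : SL2 F) : Mat F) * M * (cosetRep F none : Mat F) =
        !![M 1 1, -M 1 0; -M 0 1, M 0 0] := by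
      rw [cosetRep_none_inv]
      ext i j
      fin_cases i <;> fin_cases j <;>
        simp [cosetRep, Matrix.mul_apply, Matrix.vecMul, dotProduct, Fin.sum_univ_two]
    rw [this]
    simp
  · refine Finset.sum_congr rfl fun t _ => ?_
    have : (((cosetRep F (some t))⁻¹ : SL2 F) : Mat F) * M * (cosetRep F (some t) : Mat F) =
        !![M 0 0 + M 0 1 * t, M 0 1; M 1 0 + (M 1 1 - M 0 0) * t - M 0 1 * t ^ 2,
          M 1 1 - M 0 1 * t] := by
      rw [cosetRep_some_inv]
      ext i j
      fin_cases i <;> fin_cases j <;>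
        simp [cosetRep, Matrix.mul_apply, Matrix.vecMul, dotProduct, Fin.sum_univ_two] <;> ring
    rw [this]
    simp

theorem ps_apply (α β : MulChar F ℂ) (g : GL2 F) :
    ps α β g = psVal (fun a b => α a * β b) (g : Mat F) := by
  rw [ps, indFun_eq_sum_transversal _ (isChar_classFun (isChar_of_irr (isIrr_borelChar α β)))
    _ cosetRep_unique, ← sum_cosetRep]
  refine Finset.sum_congr rfl fun i _ => ?_
  rw [← map_inv]
  exact extendByZero_borel (fun a b => α a * β b) _

/-- The linear character of the Borel subgroup of `SL₂`. -/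
noncomputable def borelCharSL (α : MulChar F ℂ) : borelSL F → ℂ :=
  fun b => α (((b : SL2 F) : Mat F) 0 0)

omit [Fintype F] [DecidableEq F] in
theorem isIrr_borelCharSL (α : MulChar F ℂ) : IsIrrCharacter _ (borelCharSL α) := by
  refine isIrr_of_mul (by simp [borelCharSL]) fun a b => ?_
  simp [borelCharSL, Matrix.mul_apply, mem_borelSL.mp b.2]

/-- The principal series character of `SL₂`. -/
noncomputable def psSL (α : MulChar F ℂ) : SL2 F → ℂ :=
  indFun (borelSL F) (borelCharSL α)

theorem isChar_psSL (α : MulChar F ℂ) : IsCharacter _ (psSL α) :=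
  isChar_indFun _ (isChar_of_irr (isIrr_borelCharSL α))

theorem psSL_apply (α : MulChar F ℂ) (g : SL2 F) :
    psSL α g = psVal (fun a _ => α a) (g : Mat F) := by
  rw [psSL, indFun_eq_sum_transversal _ (isChar_classFun (isChar_of_irr (isIrr_borelCharSL α)))
    (cosetRep F) (fun g => by
      simpa using cosetRep_unique (Matrix.SpecialLinearGroup.toGL g)), ← sum_cosetRep]
  refine Finset.sum_congr rfl fun i _ => ?_
  exact extendByZero_borelSL (fun a _ => α a) _

theorem psVal_sc (φ : F → F → ℂ) {M : Mat F} (h : IsSc M) :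
    psVal φ M = ((q : ℂ) + 1) * φ (M 0 0) (M 0 0) := by
  simp [psVal, h.1, h.2.1, ← h.2.2]
  ring

theorem psVal_un (φ : F → F → ℂ) (a : F) : psVal φ !![a, 1; 0, a] = φ a a := by
  simp [psVal]

theorem psVal_dg (φ : F → F → ℂ) {a b : F} (hab : a ≠ b) :
    psVal φ !![a, 0; 0, b] = φ a b + φ b a := by
  simp [psVal, sub_eq_zero, hab.symm, add_comm]

theorem psVal_el (φ : F → F → ℂ) {M : Mat F} {z : K} (hz : z ^ q ≠ z)
    (ht : M.trace = Algebra.trace F K z) (hd : M.det = Algebra.norm F z) : psVal φ M = 0 := by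
  rw [Matrix.trace_fin_two] at ht
  rw [Matrix.det_fin_two] at hd
  rw [psVal, if_neg, zero_add]
  · refine Finset.sum_eq_zero fun t _ => if_neg fun h => ?_
    refine not_split hz (a := M 0 0 + M 0 1 * t) (b := M 1 1 - M 0 1 * t) ?_ ?_
    · rw [← ht]; ring
    · rw [← hd]; linear_combination -M 0 1 * h
  · intro h
    refine not_split hz ht.symm ?_
    rw [← hd, h]; ring

variable (K) in
theorem vals_ps (α β : MulChar F ℂ) :
    Vals (fun g : GL2 F => (g : Mat F)) (ps α β) (fun a => ((q : ℂ) + 1) * (α a * β a))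
      (fun a => α a * β a) (fun a b => α a * β b + α b * β a) (fun _ : K => 0) := by
  refine Vals.of_classFun (isChar_classFun (isChar_ps α β)) ?_ ?_ ?_ ?_
  · intro g h
    rw [ps_apply, psVal_sc _ h]
  · intro g a h
    rw [ps_apply, h, psVal_un]
  · intro g a b hab h
    rw [ps_apply, h, psVal_dg _ hab]
  · intro z hz
    rw [ps_apply, iotaGL_coe, psVal_el _ hz (iota_trace _) (iota_det _)]

theorem psSL_eq (α : MulChar F ℂ) (g : SL2 F) :
    psSL α g = ps α 1 (Matrix.SpecialLinearGroup.toGL g) := by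
  rw [psSL_apply, ps_apply]
  have hd := g.det_coe
  rw [Matrix.det_fin_two] at hd
  change _ = psVal _ (g : Mat F)
  unfold psVal
  congr 1
  · split_ifs with h
    · beta_reduce
      rw [MulChar.one_apply, mul_one]
      rw [h] at hd
      exact IsUnit.of_mul_eq_one ((g : Mat F) 1 1) (by linear_combination hd)
    · rfl
  · refine Finset.sum_congr rfl fun t _ => ?_
    split_ifs with h
    · beta_reduce
      rw [MulChar.one_apply, mul_one]
      exact IsUnit.of_mul_eq_one ((g : Mat F) 0 0 + (g : Mat F) 0 1 * t)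
        (by linear_combination hd + (g : Mat F) 0 1 * h)
    · rfl

/-! ### Orders -/

omit [DecidableEq F] in
theorem card_GL2 : (Nat.card (GL2 F) : ℂ) = ((q : ℂ) ^ 2 - 1) * ((q : ℂ) ^ 2 - q) := by
  have h1 : 1 ≤ q := Fintype.card_pos
  rw [Matrix.card_GL_field]
  simp only [Fin.prod_univ_two, Fin.val_zero, pow_zero, Fin.val_one, pow_one]
  rw [Nat.cast_mul, Nat.cast_sub (Nat.one_le_pow _ _ h1), Nat.cast_sub (Nat.le_self_pow two_ne_zero _)]
  simp

omit [DecidableEq F] in
variable (F K) in
theorem card_unitsK : (Nat.card Kˣ : ℂ) = (q : ℂ) ^ 2 - 1 := by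
  rw [Nat.card_units, Nat.card_eq_fintype_card, card_K (F := F),
    Nat.cast_sub (Nat.one_le_pow _ _ Fintype.card_pos)]
  simp

omit [DecidableEq F] in
theorem q_sub_one_ne : (q : ℂ) - 1 ≠ 0 := by
  have : (1 : ℕ) < q := Fintype.one_lt_card
  rw [sub_ne_zero]
  exact_mod_cast this.ne'

omit [DecidableEq F] [Field F] in
theorem q_add_one_ne : (q : ℂ) + 1 ≠ 0 := by exact_mod_cast Nat.succ_ne_zero q

omit [DecidableEq F] in
theorem q_ne : (q : ℂ) ≠ 0 := by exact_mod_cast Fintype.card_ne_zero

omit [DecidableEq F] in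
theorem q_sq_sub_one_ne : (q : ℂ) ^ 2 - 1 ≠ 0 := by
  rw [show (q : ℂ) ^ 2 - 1 = (q - 1) * (q + 1) by ring]
  exact mul_ne_zero q_sub_one_ne q_add_one_ne

/-! ### Centralizer of an elliptic element -/

omit [Fintype F] [DecidableEq F] in
theorem exists_of_commute {M N : Mat F} (hM : ¬ IsSc M) (h : M * N = N * M) :
    ∃ x y : F, N = x • (1 : Mat F) + y • M := by
  have h00 := congrFun (congrFun h 0) 0
  have h01 := congrFun (congrFun h 0) 1
  have h10 := congrFun (congrFun h 1) 0
  simp only [Matrix.mul_apply, Fin.sum_univ_two] at h00 h01 h10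
  by_cases h1 : M 0 1 = 0
  · by_cases h2 : M 1 0 = 0
    · have h3 : M 0 0 - M 1 1 ≠ 0 := fun h3 => hM ⟨h1, h2, sub_eq_zero.mp h3⟩
      have h4 : N 0 1 = 0 := by
        apply mul_left_cancel₀ h3
        rw [h1] at h01
        linear_combination h01
      have h5 : N 1 0 = 0 := by
        apply mul_left_cancel₀ h3
        rw [h2] at h10
        linear_combination -h10
      refine ⟨N 0 0 - (N 0 0 - N 1 1) / (M 0 0 - M 1 1) * M 0 0,
        (N 0 0 - N 1 1) / (M 0 0 - M 1 1), ?_⟩
      ext i j
      fin_cases i <;> fin_cases j <;> simp [h1, h2, h4, h5]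
      field_simp
      ring
    · refine ⟨N 0 0 - N 1 0 / M 1 0 * M 0 0, N 1 0 / M 1 0, ?_⟩
      ext i j
      fin_cases i <;> fin_cases j <;> simp
      · field_simp
        linear_combination -h00
      · field_simp
      · field_simp
        linear_combination -h10
  · refine ⟨N 0 0 - N 0 1 / M 0 1 * M 0 0, N 0 1 / M 0 1, ?_⟩
    ext i j
    fin_cases i <;> fin_cases j <;> simp
    · field_simp
    · field_simp
      linear_combination h00
    · field_simp
      linear_combination h01

omit [DecidableEq F] in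
theorem centralizer_iotaGL {z : Kˣ} (hz : (z : K) ^ q ≠ z) :
    Subgroup.centralizer {iotaGL F K z} = (iotaGL F K).range := by
  ext g
  rw [Subgroup.mem_centralizer_singleton_iff]
  constructor
  · intro h
    have h1 : iota F K z * (g : Mat F) = (g : Mat F) * iota F K z := (congrArg Units.val h).symm
    obtain ⟨x, y, hxy⟩ := exists_of_commute ((isSc_iota_iff _).not.mpr hz) h1
    have h2 : iota F K (x • 1 + y • (z : K)) = g := by
      rw [hxy, map_add, map_smul, map_smul, map_one]
    have h3 : x • 1 + y • (z : K) ≠ 0 := by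
      intro h3
      apply g.det_ne_zero
      rw [← h2, h3, map_zero, Matrix.det_zero]
    exact ⟨Units.mk0 _ h3, Units.ext h2⟩
  · rintro ⟨w, rfl⟩
    rw [← map_mul, ← map_mul, mul_comm]

variable [DecidableEq K]

/-- The character induced from the non-split torus. -/
noncomputable def indK (F : Type*) {K : Type*} [Field F] [Fintype F] [DecidableEq F] [Field K]
    [Fintype K] [DecidableEq K] [Algebra F K] [Fact (Module.finrank F K = 2)] (θ : MulChar K ℂ) :
    GL2 F → ℂ :=
  indHom (iotaGL F K) (fun z => θ z)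

theorem isChar_indK (θ : MulChar K ℂ) : IsCharacter _ (indK F θ) :=
  isChar_indHom _ (isChar_of_irr (isIrr_of_mul (by simp) (by simp)))

theorem vals_indK (θ : MulChar K ℂ) :
    Vals (fun g : GL2 F => (g : Mat F)) (indK F θ)
      (fun a => ((q : ℂ) ^ 2 - q) * θ (algebraMap F K a))
      (fun _ => 0) (fun _ _ => 0) (fun z : K => θ z + θ (z ^ q)) := by
  refine Vals.of_classFun (isChar_classFun (isChar_indK θ)) ?_ ?_ ?_ ?_
  · intro g h
    have h0 : (g : Mat F) 0 0 ≠ 0 := by
      have := g.det_ne_zero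
      rw [h.det] at this
      exact left_ne_zero_of_mul this
    have h1 : algebraMap F K ((g : Mat F) 0 0) ≠ 0 := by simpa using h0
    have h2 : iotaGL F K (Units.mk0 _ h1) = g := by
      apply Units.ext
      rw [iotaGL_coe, Units.val_mk0, iota_algebraMap]
      conv_rhs => rw [Matrix.eta_fin_two (g : Mat F), h.1, h.2.1, ← h.2.2]
    have h3 : Subgroup.centralizer {g} = ⊤ := by
      rw [eq_top_iff]
      intro x _
      rw [Subgroup.mem_centralizer_singleton_iff]
      exact Units.ext (h.comm _).symm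
    rw [indK, indHom_apply_eq, h3, Subgroup.card_top, card_GL2, card_unitsK F K,
      Finset.sum_eq_single (Units.mk0 _ h1)]
    · rw [if_pos (by rw [h2]; exact IsConj.refl _), mul_div_cancel_left₀ _ q_sq_sub_one_ne]
      rfl
    · intro b _ hb
      refine if_neg fun hc => hb (iotaGL_injective (F := F) ?_)
      rw [h2, eq_of_isConj_of_isSc h hc]
    · simp
  · intro g a h
    rw [indK, indHom_apply_eq, Finset.sum_eq_zero, mul_zero]
    intro z _
    refine if_neg fun hc => ?_
    have h1 := trace_eq_of_isConj hc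
    have h2 := det_eq_of_isConj hc
    rw [h, iotaGL_coe, iota_trace] at h1
    rw [h, iotaGL_coe, iota_det] at h2
    have h3 := eq_or_eq_of_trace_norm_split (z := (z : K)) (a := a) (b := a)
      (by rw [← h1]; simp [Matrix.trace_fin_two]) (by rw [← h2]; simp [Matrix.det_fin_two])
    rw [or_self] at h3
    have h4 : IsSc (iotaGL F K z : Mat F) := by
      rw [iotaGL_coe, isSc_iota_iff, h3, frob_algebraMap]
    rw [eq_of_isConj_of_isSc h4 hc.symm, h] at h4
    simpa using h4.1
  · intro g a b hab h
    rw [indK, indHom_apply_eq, Finset.sum_eq_zero, mul_zero]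
    intro z _
    refine if_neg fun hc => ?_
    have h1 := trace_eq_of_isConj hc
    have h2 := det_eq_of_isConj hc
    rw [h, iotaGL_coe, iota_trace] at h1
    rw [h, iotaGL_coe, iota_det] at h2
    have h1' : Algebra.trace F K z = a + b := by rw [← h1]; simp [Matrix.trace_fin_two]
    have h3 := eq_or_eq_of_trace_norm_split (z := (z : K)) (a := a) (b := b) h1'
      (by rw [← h2]; simp [Matrix.det_fin_two])
    apply hab
    rcases h3 with h3 | h3
    · rw [h3, trace_algebraMap'] at h1'
      linear_combination h1'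
    · rw [h3, trace_algebraMap'] at h1'
      linear_combination -h1'
  · intro z hz
    rw [indK, indHom_apply_eq, centralizer_iotaGL hz,
      ← Nat.card_congr (MonoidHom.ofInjective (iotaGL_injective (F := F) (K := K))).toEquiv,
      div_self (by rw [card_unitsK F K]; exact q_sq_sub_one_ne), one_mul,
      Finset.sum_eq_add z (z ^ q) (fun h => hz (by rw [← Units.val_pow_eq_pow_val, ← h]))]
    · rw [if_pos (IsConj.refl _), if_pos]
      · simp
      · refine isConj_of_trace_det ((isSc_iota_iff _).not.mpr hz)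
          ((isSc_iota_iff _).not.mpr (frob_ne_of_ne hz)) ?_ ?_
        · rw [iotaGL_coe, iotaGL_coe, iota_trace, iota_trace, Units.val_pow_eq_pow_val, trace_frob]
        · rw [iotaGL_coe, iotaGL_coe, iota_det, iota_det, Units.val_pow_eq_pow_val, norm_frob]
    · intro w _ hw
      refine if_neg fun hc => ?_
      have h1 := trace_eq_of_isConj hc
      have h2 := det_eq_of_isConj hc
      rw [iotaGL_coe, iotaGL_coe, iota_trace, iota_trace] at h1
      rw [iotaGL_coe, iotaGL_coe, iota_det, iota_det] at h2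
      rcases eq_or_eq_of_trace_norm h1.symm h2.symm with h | h
      · exact hw.1 (Units.ext h)
      · exact hw.2 (Units.ext h)
    · simp
    · simp

end Cfsg.Agent.GL2Char
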