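import Mathlib

/-!
# Quadratic extensions of finite fields and summation over `2 × 2` matrices
-/

set_option autoImplicit false

namespace Cfsg.Agent.GL2Char

open Polynomial

variable {F K : Type*} [Field F] [Fintype F] [Field K] [Fintype K] [Algebra F K]
  [hK : Fact (Module.finrank F K = 2)]

local notation "q" => Fintype.card F

theorem card_K : Fintype.card K = q ^ 2 := by
  rw [Module.card_eq_pow_finrank (K := F) (V := K), hK.out]

theorem algebraMap_norm (z : K) : algebraMap F K (Algebra.norm F z) = z * z ^ q := by
  rw [FiniteField.algebraMap_norm_eq_prod_pow, hK.out]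
  simp [Finset.prod_range_succ]

theorem algebraMap_trace (z : K) : algebraMap F K (Algebra.trace F K z) = z + z ^ q := by
  rw [FiniteField.algebraMap_trace_eq_sum_pow, hK.out]
  simp [Finset.sum_range_succ]

theorem frob_frob (z : K) : (z ^ q) ^ q = z := by
  rw [← pow_mul, ← sq, ← card_K (F := F) (K := K), FiniteField.pow_card]

omit [Fintype K] hK in
theorem frob_algebraMap (a : F) : (algebraMap F K a) ^ q = algebraMap F K a := by
  rw [← map_pow, FiniteField.pow_card]

omit [Fintype K] hK in
theorem frob_add (z w : K) : (z + w) ^ q = z ^ q + w ^ q :=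
  map_add (FiniteField.frobeniusAlgHom F K) z w

omit [Fintype K] hK in
theorem frob_sub (z w : K) : (z - w) ^ q = z ^ q - w ^ q :=
  map_sub (FiniteField.frobeniusAlgHom F K) z w

omit hK in
theorem exists_of_frob_eq {z : K} (h : z ^ q = z) : ∃ a : F, algebraMap F K a = z := by
  have h1 : z ∈ Set.range (algebraMap F K) := by
    rw [IsGalois.mem_range_algebraMap_iff_fixed]
    intro f
    obtain ⟨⟨i, hi⟩, rfl⟩ := (FiniteField.bijective_frobeniusAlgEquivOfAlgebraic_pow F K).2 f
    simp only [AlgEquiv.coe_pow, FiniteField.coe_frobeniusAlgEquivOfAlgebraic]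
    exact Function.iterate_fixed h i
  exact h1

omit hK in
theorem frob_eq_iff {z : K} : z ^ q = z ↔ ∃ a : F, algebraMap F K a = z :=
  ⟨exists_of_frob_eq, by rintro ⟨a, rfl⟩; exact frob_algebraMap a⟩

theorem norm_frob (z : K) : Algebra.norm F (z ^ q) = Algebra.norm F z := by
  apply (algebraMap F K).injective
  rw [algebraMap_norm, algebraMap_norm, frob_frob, mul_comm]

theorem trace_frob (z : K) : Algebra.trace F K (z ^ q) = Algebra.trace F K z := by
  apply (algebraMap F K).injective
  rw [algebraMap_trace, algebraMap_trace, frob_frob, add_comm]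

theorem norm_algebraMap' (a : F) : Algebra.norm F (algebraMap F K a) = a * a := by
  apply (algebraMap F K).injective
  rw [algebraMap_norm, frob_algebraMap, map_mul]

theorem trace_algebraMap' (a : F) : Algebra.trace F K (algebraMap F K a) = a + a := by
  apply (algebraMap F K).injective
  rw [algebraMap_trace, frob_algebraMap, map_add]

theorem frob_ne_of_ne {z : K} (h : z ^ q ≠ z) : (z ^ q) ^ q ≠ z ^ q := by
  rw [frob_frob]; exact h.symm

omit [Fintype K] hK [Algebra F K] in
theorem ne_zero_of_frob_ne {z : K} (h : z ^ q ≠ z) : z ≠ 0 := by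
  rintro rfl
  exact h (zero_pow Fintype.card_ne_zero)

theorem norm_eq_zero_iff' {z : K} : Algebra.norm F z = 0 ↔ z = 0 := by
  constructor
  · intro h
    have := algebraMap_norm (F := F) z
    rw [h, map_zero] at this
    rcases mul_eq_zero.mp this.symm with h | h
    · exact h
    · exact pow_eq_zero_iff Fintype.card_ne_zero |>.mp h
  · rintro rfl
    apply (algebraMap F K).injective
    rw [algebraMap_norm]; simp

theorem eq_or_eq_of_trace_norm {z w : K} (ht : Algebra.trace F K w = Algebra.trace F K z)
    (hn : Algebra.norm F w = Algebra.norm F z) : w = z ∨ w = z ^ q := by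
  have h1 := algebraMap_trace (F := F) w
  have h2 := algebraMap_norm (F := F) w
  rw [ht, algebraMap_trace] at h1
  rw [hn, algebraMap_norm] at h2
  have : (w - z) * (w - z ^ q) = 0 := by
    linear_combination -w * h1 + h2
  rcases mul_eq_zero.mp this with h | h
  · left; exact sub_eq_zero.mp h
  · right; exact sub_eq_zero.mp h

theorem eq_or_eq_of_trace_norm_split {z : K} {a b : F} (ht : Algebra.trace F K z = a + b)
    (hn : Algebra.norm F z = a * b) : z = algebraMap F K a ∨ z = algebraMap F K b := by
  have h1 := algebraMap_trace (F := F) z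
  have h2 := algebraMap_norm (F := F) z
  rw [ht, map_add] at h1
  rw [hn, map_mul] at h2
  have : (z - algebraMap F K a) * (z - algebraMap F K b) = 0 := by
    linear_combination -z * h1 + h2
  rcases mul_eq_zero.mp this with h | h
  · left; exact sub_eq_zero.mp h
  · right; exact sub_eq_zero.mp h

theorem not_split {z : K} (hz : z ^ q ≠ z) {a b : F} (ht : Algebra.trace F K z = a + b)
    (hn : Algebra.norm F z = a * b) : False := by
  rcases eq_or_eq_of_trace_norm_split ht hn with h | h <;>
  exact hz (by rw [h, frob_algebraMap])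

variable (K) in
theorem exists_root (t d : F) : ∃ z : K, z * z - algebraMap F K t * z + algebraMap F K d = 0 := by
  by_cases h : ∃ a : F, a * a - t * a + d = 0
  · obtain ⟨a, ha⟩ := h
    refine ⟨algebraMap F K a, ?_⟩
    have := congrArg (algebraMap F K) ha
    simpa using this
  push Not at h
  let p : F[X] := X ^ 2 - C t * X + C d
  have hdeg : p.natDegree = 2 := by
    simp only [p]
    compute_degree!
  have hirr : Irreducible p := by
    apply Polynomial.irreducible_of_degree_le_three_of_not_isRoot (by rw [hdeg]; simp)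
    intro x hx
    apply h x
    simpa [p, sq] using hx
  have : Fact (Irreducible p) := ⟨hirr⟩
  have hfr : Module.finrank F (AdjoinRoot p) = 2 := by
    rw [(AdjoinRoot.powerBasis hirr.ne_zero).finrank, AdjoinRoot.powerBasis_dim, hdeg]
  have : Module.Finite F (AdjoinRoot p) := Module.finite_of_finrank_pos (by rw [hfr]; norm_num)
  have : Finite (AdjoinRoot p) := Module.finite_of_finite F
  obtain ⟨φ⟩ := FiniteField.nonempty_algHom_of_finrank_dvd (F := F) (K := AdjoinRoot p) (L := K)
    (by rw [hfr, hK.out])
  refine ⟨φ (AdjoinRoot.root p), ?_⟩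
  have h1 : aeval (AdjoinRoot.root p) p = 0 := by simp
  have h2 := congrArg φ h1
  rw [← aeval_algHom_apply] at h2
  simpa [p, sq] using h2

variable (K) in
theorem trichotomy (t d : F) :
    (∃ a, t = a + a ∧ d = a * a) ∨ (∃ a b, a ≠ b ∧ t = a + b ∧ d = a * b) ∨
      (∃ z : K, z ^ q ≠ z ∧ t = Algebra.trace F K z ∧ d = Algebra.norm F z) := by
  obtain ⟨z, hz⟩ := exists_root K t d
  by_cases h : z ^ q = z
  · obtain ⟨a, rfl⟩ := exists_of_frob_eq h
    have ha : a * a - t * a + d = 0 := by
      apply (algebraMap F K).injective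
      simpa using hz
    by_cases hab : a = t - a
    · left
      refine ⟨a, by linear_combination -hab, by linear_combination ha - a * hab⟩
    · right; left
      exact ⟨a, t - a, hab, by ring, by linear_combination ha⟩
  · right; right
    have hz' : z ^ q * z ^ q - algebraMap F K t * z ^ q + algebraMap F K d = 0 := by
      have := congrArg (FiniteField.frobeniusAlgHom F K) hz
      rw [map_add, map_sub, map_mul, map_mul, AlgHom.commutes, AlgHom.commutes, map_zero] at this
      exact this
    have h1 : (z ^ q - z) * (z ^ q + z - algebraMap F K t) = 0 := by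
      linear_combination hz' - hz
    have h2 : z ^ q + z - algebraMap F K t = 0 :=
      (mul_eq_zero.mp h1).resolve_left (sub_ne_zero.mpr h)
    refine ⟨z, h, (algebraMap F K).injective ?_, (algebraMap F K).injective ?_⟩
    · rw [algebraMap_trace]; linear_combination -h2
    · rw [algebraMap_norm]; linear_combination hz - z * h2

theorem sum_fiber {α β : Type*} [Fintype α] [Fintype β] [DecidableEq β] (φ : α → β) (G : β → ℂ) :
    ∑ x, G (φ x) = ∑ y, ((Finset.univ.filter fun x => φ x = y).card : ℂ) * G y := by
  rw [← Finset.sum_fiberwise (s := Finset.univ) (g := φ) (f := fun x => G (φ x))]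
  refine Finset.sum_congr rfl fun y _ => ?_
  rw [Finset.sum_congr rfl (g := fun _ => G y) fun x hx => by rw [(Finset.mem_filter.mp hx).2]]
  simp

variable (K) in
theorem sum_pairs (G : F → F → ℂ) :
    2 * ∑ t, ∑ d, G t d =
      ∑ a, ∑ b, G (a + b) (a * b) + ∑ z : K, G (Algebra.trace F K z) (Algebra.norm F z) := by
  classical
  rw [← Fintype.sum_prod_type', ← Fintype.sum_prod_type' (fun a b => G (a + b) (a * b)),
    sum_fiber (fun x : F × F => (x.1 + x.2, x.1 * x.2)) (fun y => G y.1 y.2),
    sum_fiber (fun z : K => (Algebra.trace F K z, Algebra.norm F z)) (fun y => G y.1 y.2),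
    ← Finset.sum_add_distrib, Finset.mul_sum]
  refine Finset.sum_congr rfl fun ⟨t, d⟩ _ => ?_
  rw [← add_mul, ← Nat.cast_add]
  congr 1
  norm_cast
  rcases trichotomy K t d with ⟨a, rfl, rfl⟩ | ⟨a, b, hab, rfl, rfl⟩ | ⟨z, hz, rfl, rfl⟩
  · have h1 : (Finset.univ.filter fun x : F × F => (x.1 + x.2, x.1 * x.2) = (a + a, a * a)) =
        {(a, a)} := by
      ext ⟨x, y⟩
      simp only [Finset.mem_filter, Finset.mem_univ, true_and, Prod.mk.injEq, Finset.mem_singleton]
      constructor
      · rintro ⟨h1, h2⟩
        have : (x - a) * (x - a) = 0 := by linear_combination x * h1 - h2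
        have hx : x = a := sub_eq_zero.mp (mul_self_eq_zero.mp this)
        exact ⟨hx, by linear_combination h1 - hx⟩
      · rintro ⟨rfl, rfl⟩; simp
    have h2 : (Finset.univ.filter fun z : K => (Algebra.trace F K z, Algebra.norm F z) =
        (a + a, a * a)) = {algebraMap F K a} := by
      ext z
      simp only [Finset.mem_filter, Finset.mem_univ, true_and, Prod.mk.injEq, Finset.mem_singleton]
      constructor
      · rintro ⟨h1, h2⟩
        simpa using eq_or_eq_of_trace_norm_split h1 h2
      · rintro rfl; exact ⟨trace_algebraMap' a, norm_algebraMap' a⟩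
    rw [h1, h2]; rfl
  · have h1 : (Finset.univ.filter fun x : F × F => (x.1 + x.2, x.1 * x.2) = (a + b, a * b)) =
        {(a, b), (b, a)} := by
      ext ⟨x, y⟩
      simp only [Finset.mem_filter, Finset.mem_univ, true_and, Prod.mk.injEq, Finset.mem_singleton,
        Finset.mem_insert]
      constructor
      · rintro ⟨h1, h2⟩
        have : (x - a) * (x - b) = 0 := by linear_combination x * h1 - h2
        rcases mul_eq_zero.mp this with h | h
        · left; exact ⟨by linear_combination h, by linear_combination h1 - h⟩
        · right; exact ⟨by linear_combination h, by linear_combination h1 - h⟩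
      · rintro (⟨rfl, rfl⟩ | ⟨rfl, rfl⟩)
        · simp
        · exact ⟨add_comm _ _, mul_comm _ _⟩
    have h2 : (Finset.univ.filter fun z : K => (Algebra.trace F K z, Algebra.norm F z) =
        (a + b, a * b)) = ∅ := by
      ext z
      simp only [Finset.mem_filter, Finset.mem_univ, true_and, Prod.mk.injEq, Finset.notMem_empty,
        iff_false, not_and]
      intro h1 h2
      apply hab
      rcases eq_or_eq_of_trace_norm_split h1 h2 with h | h
      · rw [h, trace_algebraMap'] at h1
        linear_combination h1
      · rw [h, trace_algebraMap'] at h1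
        linear_combination -h1
    rw [h1, h2, Finset.card_pair (by simp [hab])]; rfl
  · have h1 : (Finset.univ.filter fun x : F × F => (x.1 + x.2, x.1 * x.2) =
        (Algebra.trace F K z, Algebra.norm F z)) = ∅ := by
      ext ⟨x, y⟩
      simp only [Finset.mem_filter, Finset.mem_univ, true_and, Prod.mk.injEq, Finset.notMem_empty,
        iff_false, not_and]
      intro h1 h2
      exact not_split hz h1.symm h2.symm
    have h2 : (Finset.univ.filter fun w : K => (Algebra.trace F K w, Algebra.norm F w) =
        (Algebra.trace F K z, Algebra.norm F z)) = {z, z ^ q} := by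
      ext w
      simp only [Finset.mem_filter, Finset.mem_univ, true_and, Prod.mk.injEq, Finset.mem_singleton,
        Finset.mem_insert]
      constructor
      · rintro ⟨h1, h2⟩
        exact eq_or_eq_of_trace_norm h1 h2
      · rintro (rfl | rfl)
        · simp
        · exact ⟨trace_frob z, norm_frob z⟩
    rw [h1, h2, Finset.card_pair hz.symm]; rfl

theorem sum_mul_pair (h : F → ℂ) :
    ∑ b, ∑ c, h (b * c) = ((q : ℂ) - 1) * ∑ e, h e + q * h 0 := by
  classical
  rw [← Finset.add_sum_erase _ _ (Finset.mem_univ (0 : F))]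
  have : ∀ b ∈ Finset.univ.erase (0 : F), ∑ c, h (b * c) = ∑ e, h e := by
    intro b hb
    exact Equiv.sum_comp (Equiv.mulLeft₀ b (Finset.ne_of_mem_erase hb)) h
  rw [Finset.sum_congr rfl this, Finset.sum_const, Finset.card_erase_of_mem (Finset.mem_univ _),
    Finset.card_univ, nsmul_eq_mul, Nat.cast_sub Fintype.card_pos]
  simp [add_comm]

/-- `2 × 2` matrices as quadruples. -/
def matEquiv (F : Type*) : (F × F) × (F × F) ≃ Matrix (Fin 2) (Fin 2) F where
  toFun x := !![x.1.1, x.2.1; x.2.2, x.1.2]
  invFun M := ((M 0 0, M 1 1), (M 0 1, M 1 0))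
  left_inv _ := rfl
  right_inv M := (Matrix.eta_fin_two M).symm

theorem sum_matrix [Fintype (Matrix (Fin 2) (Fin 2) F)] (G : F → F → ℂ) :
    ∑ M : Matrix (Fin 2) (Fin 2) F, G M.trace M.det =
      q * ((q : ℂ) - 1) * ∑ t, ∑ d, G t d + q * ∑ a, ∑ b, G (a + b) (a * b) := by
  rw [← Equiv.sum_comp (matEquiv F), Fintype.sum_prod_type, Fintype.sum_prod_type]
  have h1 : ∀ a d : F, ∑ y : F × F, G (matEquiv F ((a, d), y)).trace (matEquiv F ((a, d), y)).det
      = ((q : ℂ) - 1) * ∑ e, G (a + d) e + q * G (a + d) (a * d) := by
    intro a d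
    rw [Fintype.sum_prod_type]
    have := sum_mul_pair (fun e => G (a + d) (a * d - e))
    simp only [sub_zero] at this
    rw [Equiv.sum_comp (Equiv.subLeft (a * d)) (fun e => G (a + d) e) |>.symm]
    simp only [Matrix.trace_fin_two, Matrix.det_fin_two]
    exact this
  simp only [h1, Finset.sum_add_distrib, ← Finset.mul_sum]
  congr 1
  have h2 : ∀ a : F, ∑ d, ∑ e, G (a + d) e = ∑ t, ∑ e, G t e := fun a =>
    Equiv.sum_comp (Equiv.addLeft a) (fun t => ∑ e, G t e)
  simp only [h2, Finset.sum_const, Finset.card_univ, nsmul_eq_mul]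
  ring

end Cfsg.Agent.GL2Char
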