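import Cfsg.Agent.GL2Char.SLCount
import Cfsg.Agent.CharLib.Local

/-!
# Blocks of `SL₂` in the defining characteristic
-/

set_option autoImplicit false

namespace Cfsg.Agent.GL2Char

open Cfsg Cfsg.Agent.CharLib
open Cfsg.Agent.SL2 (upT)
open scoped ComplexConjugate

variable {F : Type*} [Field F] [Fintype F] [DecidableEq F] {p : ℕ} [hp : Fact p.Prime] [CharP F p]
  {M : Ideal AlgInt}

local notation "q" => Fintype.card F

omit [DecidableEq F] hp in
variable (F p) in
theorem char_dvd_q : p ∣ q := by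
  obtain ⟨n, -, h⟩ := FiniteField.card F p
  rw [h]
  exact dvd_pow_self p n.ne_zero

variable (p) in
theorem sl_degree_not_dvd {χ : SL2 F → ℂ} (hχ : IsIrrCharacter _ χ) (h : χ 1 ≠ q) :
    ∃ n : ℕ, χ 1 = n ∧ ¬ p ∣ n := by
  obtain ⟨n, -, hn⟩ := isIrr_degree hχ
  refine ⟨n, hn, fun hd => hp.out.one_lt.ne' (Nat.dvd_one.mp ?_)⟩
  have hq := char_dvd_q F p
  obtain ⟨K, _, _, _, _, _⟩ := exists_quad F
  rcases isIrr_SL2_cases K hχ with rfl | rfl | ⟨α, -, rfl⟩ | ⟨θ, -, rfl⟩ | ⟨α, -, -, χ', h1⟩ |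
    ⟨θ, -, -, χ', h1⟩
  · have : 1 = n := by exact_mod_cast (show (1 : ℂ) = n from hn)
    rwa [this]
  · exact absurd stSL_apply_one h
  · rw [psSL_apply_one] at hn
    have : q + 1 = n := by exact_mod_cast hn
    rw [← this] at hd
    exact (Nat.dvd_add_right hq).mp hd
  · rw [cuspSL_apply_one, sub_eq_iff_eq_add] at hn
    have : q = n + 1 := by exact_mod_cast hn
    rw [this] at hq
    exact (Nat.dvd_add_right hd).mp hq
  · have h2 := h1.degree
    rw [psSL_apply_one, hn] at h2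
    have : 2 * n = q + 1 := by exact_mod_cast h2
    have h3 := hd.mul_left 2
    rw [this] at h3
    exact (Nat.dvd_add_right hq).mp h3
  · have h2 := h1.degree
    rw [cuspSL_apply_one, hn, eq_sub_iff_add_eq] at h2
    have : 2 * n + 1 = q := by exact_mod_cast h2
    rw [← this] at hq
    exact (Nat.dvd_add_right (hd.mul_left 2)).mp hq

omit [DecidableEq F] in
variable (F p) in
theorem not_dvd_q_sq_sub_one : ¬ p ∣ q ^ 2 - 1 := by
  intro h
  have h1 : p ∣ q ^ 2 := (char_dvd_q F p).pow two_ne_zero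
  have h2 := (Nat.dvd_sub_iff_right (Nat.one_le_pow _ _ Fintype.card_pos) h1).mp h
  exact hp.out.one_lt.ne' (Nat.dvd_one.mp h2)

omit [DecidableEq F] in
variable (p) in
theorem dvd_index_semisimple {g : SL2 F} (hg : (g : Mat F).trace ^ 2 ≠ 4) :
    p ∣ (Subgroup.centralizer ({g} : Set (SL2 F))).index := by
  have h1 := Subgroup.card_mul_index (Subgroup.centralizer ({g} : Set (SL2 F)))
  rw [Cfsg.Agent.SL2.card_sl] at h1
  have hq := char_dvd_q F p
  have h2 := hq.mul_right (q ^ 2 - 1)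
  rw [← h1] at h2
  refine (hp.out.dvd_mul.mp h2).resolve_left fun h => hp.out.one_lt.ne' (Nat.dvd_one.mp ?_)
  rcases Cfsg.Agent.SL2.ell_or_spl_one hg with h3 | h3
  · rw [Cfsg.Agent.SL2.card_cent_ell h3] at h
    exact (Nat.dvd_add_right hq).mp h
  · rw [Cfsg.Agent.SL2.card_cent_spl h3] at h
    exact (Nat.dvd_sub_iff_right Fintype.card_pos hq).mp h

omit [DecidableEq F] in
variable (p) in
theorem not_dvd_index_upT (h2 : (2 : F) ≠ 0) :
    ¬ p ∣ (Subgroup.centralizer ({upT 1} : Set (SL2 F))).index := by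
  have h1 := Subgroup.card_mul_index (Subgroup.centralizer ({upT 1} : Set (SL2 F)))
  rw [Cfsg.Agent.SL2.card_sl, Cfsg.Agent.SL2.card_cent_par_odd h2 (upT_data one_ne_zero).1
    (by rw [Cfsg.Agent.SL2.trace_upT]; norm_num), mul_comm 2, mul_assoc,
    Nat.mul_right_inj Fintype.card_ne_zero] at h1
  intro h
  exact not_dvd_q_sq_sub_one F p (h1 ▸ h.mul_left 2)

omit [DecidableEq F] [Fintype F] hp [CharP F p] in
theorem centralChar_central {G : Type*} [Group G] (χ : G → ℂ) {g : G}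
    (hg : g ∈ Subgroup.center G) : centralChar χ g = χ g / χ 1 := by
  rw [centralChar, Subgroup.centralizer_eq_top_iff_subset.mpr (by simpa using hg),
    Subgroup.index_top, Nat.cast_one, one_mul]

omit [DecidableEq F] [CharP F p] hp in
theorem centralChar_unip {G : Type*} [Group G] [Finite G] (hM : IsPModular p M) {χ : G → ℂ}
    (hχ : IsIrrCharacter _ χ) {n : ℕ} (hn : χ 1 = n) (hd : ¬ p ∣ n) {z u : G}
    (hz : z ∈ Subgroup.center G) (hu : u ^ p = 1) :
    MemLocalIdeal M (centralChar χ (z * u) -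
      (Subgroup.centralizer ({z * u} : Set G)).index * (χ z / χ 1)) := by
  have hP := hM.2.1.isPrime
  have h1 := memLI_char_sub_degree hM (isChar_of_irr hχ) (g := u) (k := 1) (by rwa [pow_one])
  have h2 := irr_central hχ hz u
  have h3 := isIrr_one_ne_zero hχ
  have h4 : MemLocalRing M (χ 1)⁻¹ := by rw [hn]; exact memLR_inv_natCast hM hd
  have h5 := memLI_mul_left hP (memLR_mul hP (memLR_mul hP (memLR_mul hP
    (memLR_natCast hP (Subgroup.centralizer ({z * u} : Set G)).index) h4) h4)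
    (memLR_of_isIntegral hP (isChar_isIntegral (isChar_of_irr hχ) z))) h1
  convert h5 using 1
  rw [centralChar]
  field_simp
  linear_combination (Subgroup.centralizer ({z * u} : Set G)).index * h2

theorem sl_sameBlock (hM : IsPModular p M) {χ ψ : SL2 F → ℂ} (hχ : IsIrrCharacter _ χ)
    (hψ : IsIrrCharacter _ ψ) (h1 : χ 1 ≠ q) (h2 : ψ 1 ≠ q) (h : χ (-1) / χ 1 = ψ (-1) / ψ 1) :
    SameBlock M χ ψ := by
  have hP := hM.2.1.isPrime
  obtain ⟨n, hn, hd⟩ := sl_degree_not_dvd p hχ h1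
  obtain ⟨m, hm, hd'⟩ := sl_degree_not_dvd p hψ h2
  have hc : ∀ z ∈ Subgroup.center (SL2 F), χ z / χ 1 = ψ z / ψ 1 := by
    intro z hz
    rcases Cfsg.Agent.SL2.sl_mem_center_iff'.mp hz with rfl | rfl
    · rw [div_self (isIrr_one_ne_zero hχ), div_self (isIrr_one_ne_zero hψ)]
    · exact h
  have key : ∀ z ∈ Subgroup.center (SL2 F), ∀ u : SL2 F, u ^ p = 1 →
      MemLocalIdeal M (centralChar χ (z * u) - centralChar ψ (z * u)) := by
    intro z hz u hu
    have := memLI_sub hP (centralChar_unip hM hχ hn hd hz hu) (centralChar_unip hM hψ hm hd' hz hu)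
    rwa [hc z hz, sub_sub_sub_cancel_right] at this
  intro g
  by_cases hg : (g : Mat F).trace ^ 2 = 4
  · rcases Cfsg.Agent.SL2.trace_eq_of_disc hg with h3 | h3
    · rw [← one_mul g]
      exact key 1 (one_mem _) g (Cfsg.Agent.SL2.sl_pow_char_of_trace_two p h3)
    · rw [← neg_neg g, ← neg_one_mul]
      exact key (-1) (Cfsg.Agent.SL2.sl_mem_center_iff'.mpr (Or.inr rfl)) _
        (Cfsg.Agent.SL2.sl_pow_char_of_trace_two p (by
          rw [Cfsg.Agent.SL2.sl_trace_neg, h3, neg_neg]))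
  · have h3 := (memLI_natCast_iff hM _).mpr (dvd_index_semisimple p hg)
    refine memLI_sub hP ?_ ?_
    · rw [centralChar, div_eq_mul_inv, hn]
      exact memLI_mul_right hP (memLI_mul_right hP h3 (memLR_of_isIntegral hP
        (isChar_isIntegral (isChar_of_irr hχ) g))) (memLR_inv_natCast hM hd)
    · rw [centralChar, div_eq_mul_inv, hm]
      exact memLI_mul_right hP (memLI_mul_right hP h3 (memLR_of_isIntegral hP
        (isChar_isIntegral (isChar_of_irr hψ) g))) (memLR_inv_natCast hM hd')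

omit [DecidableEq F] [CharP F p] [Fintype F] in
theorem sl_not_sameBlock_sign (hM : IsPModular p M) (hp2 : p ≠ 2) {χ ψ : SL2 F → ℂ}
    (hχ : IsIrrCharacter _ χ) (hψ : IsIrrCharacter _ ψ) (h1 : χ (-1) = χ 1)
    (h2 : ψ (-1) = -ψ 1) : ¬ SameBlock M χ ψ := by
  intro h
  have hz : (-1 : SL2 F) ∈ Subgroup.center _ := Cfsg.Agent.SL2.sl_mem_center_iff'.mpr (Or.inr rfl)
  have h3 := h (-1)
  rw [centralChar_central _ hz, centralChar_central _ hz, h1, h2, neg_div,
    div_self (isIrr_one_ne_zero hχ), div_self (isIrr_one_ne_zero hψ), sub_neg_eq_add,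
    show (1 : ℂ) + 1 = (2 : ℕ) by norm_num, memLI_natCast_iff hM] at h3
  exact hp2 ((Nat.prime_dvd_prime_iff_eq hp.out Nat.prime_two).mp h3)

theorem sl_not_sameBlock_st (hM : IsPModular p M) (hp2 : p ≠ 2) {χ : SL2 F → ℂ}
    (hχ : IsIrrCharacter _ χ) (h1 : χ 1 ≠ q) : ¬ SameBlock M χ (stSL F) := by
  intro h
  obtain ⟨K, _, _, _, _, _⟩ := exists_quad F
  have hP := hM.2.1.isPrime
  obtain ⟨n, hn, hd⟩ := sl_degree_not_dvd p hχ h1
  have h2 := centralChar_unip hM hχ hn hd (one_mem _) (u := upT 1)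
    (Cfsg.Agent.SL2.sl_pow_char_of_trace_two p (Cfsg.Agent.SL2.trace_upT 1))
  have h3 := h (upT 1)
  rw [one_mul, div_self (isIrr_one_ne_zero hχ), mul_one] at h2
  rw [show centralChar (stSL F) (upT 1) = 0 by
    rw [centralChar, (vals_stSL F K).upT one_ne_zero, mul_zero, zero_div], sub_zero] at h3
  have h4 := memLI_sub hP h3 h2
  rw [sub_sub_cancel, memLI_natCast_iff hM] at h4
  exact not_dvd_index_upT p (Cfsg.Agent.SL2.two_ne_zero_of_char p hp2) h4

omit hp [CharP F p] in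
theorem stSL_neg_one : stSL F (-1) = q := by
  obtain ⟨K, _, _, _, _, _⟩ := exists_quad F
  exact (vals_stSL F K).sc _ (by simp [IsSc])

omit [Fintype F] [DecidableEq F] hp [CharP F p] in
theorem sl_neg_one_ne_one (h2 : (2 : F) ≠ 0) : (-1 : SL2 F) ≠ 1 := by
  intro h
  have := congrArg (fun g : SL2 F => (g : Mat F) 0 0) h
  simp only [Matrix.SpecialLinearGroup.coe_neg, Matrix.SpecialLinearGroup.coe_one,
    Matrix.neg_apply, Matrix.one_apply_eq] at this
  exact h2 (by linear_combination -this)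

omit [DecidableEq F] hp [CharP F p] in
open Classical in
theorem sum_sign (h2 : (2 : F) ≠ 0) :
    2 * ∑ χ : IrrCharacter (SL2 F), (if (χ : SL2 F → ℂ) (-1) = (χ : SL2 F → ℂ) 1 then
      (χ : SL2 F → ℂ) 1 ^ 2 else 0) = Nat.card (SL2 F) ∧
    2 * ∑ χ : IrrCharacter (SL2 F), (if (χ : SL2 F → ℂ) (-1) = -(χ : SL2 F → ℂ) 1 then
      (χ : SL2 F → ℂ) 1 ^ 2 else 0) = Nat.card (SL2 F) := by
  have h3 := sum_degree_sq (G := SL2 F)
  have h4 := sum_degree_mul (G := SL2 F) (-1)
  rw [regChar_of_ne (sl_neg_one_ne_one h2)] at h4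
  rw [Finset.mul_sum, Finset.mul_sum]
  constructor
  · rw [← add_zero (Nat.card (SL2 F) : ℂ), ← h3]
    nth_rewrite 2 [← h4]
    rw [← Finset.sum_add_distrib]
    refine Finset.sum_congr rfl fun χ _ => ?_
    split_ifs with h
    · rw [h]; ring
    · rw [(irr_neg_one χ.2).resolve_left h]; ring
  · rw [← sub_zero (Nat.card (SL2 F) : ℂ), ← h3]
    nth_rewrite 2 [← h4]
    rw [← Finset.sum_sub_distrib]
    refine Finset.sum_congr rfl fun χ _ => ?_
    split_ifs with h
    · rw [h]; ring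
    · rw [(irr_neg_one χ.2).resolve_right h]; ring

omit [DecidableEq F] hp [CharP F p] in
theorem exists_irr_neg (h2 : (2 : F) ≠ 0) :
    ∃ χ : SL2 F → ℂ, IsIrrCharacter _ χ ∧ χ (-1) = -χ 1 := by
  classical
  by_contra hc
  push Not at hc
  have h := (sum_sign h2).2
  rw [Finset.sum_eq_zero, mul_zero] at h
  · exact card_ne_zero h.symm
  · intro χ _
    exact if_neg (hc _ χ.2)

omit [DecidableEq F] hp [CharP F p] [Fintype F] [Field F] in
open Classical in
theorem blockCoeff_one {G : Type*} [Group G] [Finite G] (P : (G → ℂ) → Prop) :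
    blockCoeff {χ : IrrCharacter G | P χ} 1 =
      (Nat.card G : ℂ)⁻¹ * ∑ χ : IrrCharacter G, if P χ then (χ : G → ℂ) 1 ^ 2 else 0 := by
  rw [blockCoeff, finsum_mem_eq_finite_toFinset_sum _ (Set.toFinite _), ← Finset.sum_filter]
  congr 1
  refine Finset.sum_congr (by ext; simp) fun χ _ => ?_
  obtain ⟨n, -, hn⟩ := isIrr_degree χ.2
  rw [hn, sq, map_natCast]

omit [DecidableEq F] [CharP F p] [Fintype F] [Field F] hp in
theorem isDefectGroup_sylow {G : Type*} [Group G] [Finite G] (hM : IsPModular p M)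
    {B : Set (IrrCharacter G)} {a b : ℤ} (ha : ¬ (p : ℤ) ∣ a) (hb : ¬ (p : ℤ) ∣ b)
    (h : blockCoeff B 1 = a / b) (P : Sylow p G) : IsDefectGroup p M B P := by
  have hP := hM.2.1.isPrime
  have hle : (P : Subgroup G) ≤ Subgroup.centralizer {1} := by
    rw [Subgroup.centralizer_eq_top_iff_subset.mpr (by simp)]; exact le_top
  refine ⟨1, ⟨?_, ?_, fun χ _ => ?_⟩, P.subtype hle, ?_⟩
  · rw [h, div_eq_mul_inv]
    exact memLR_mul hP (memLR_intCast hP a) (memLR_inv_intCast hM hb)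
  · rwa [h, memLI_div_intCast_iff hM a hb]
  · rw [centralChar_central _ (one_mem _), div_self (isIrr_one_ne_zero χ.2)]
    exact not_memLI_one hP
  · rw [Sylow.coe_subtype, Subgroup.subgroupOf_map_subtype, inf_eq_left.mpr hle]

end Cfsg.Agent.GL2Char
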