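import Cfsg.Agent.GL2Char.Count
import Cfsg.Agent.SL2.Elem

/-!
# The character table of `SL₂`
-/

set_option autoImplicit false

namespace Cfsg.Agent.GL2Char

open Cfsg Cfsg.Agent.CharLib
open scoped ComplexConjugate

attribute [local simp] MulChar.map_zero

variable {F K : Type*} [Field F] [Fintype F] [DecidableEq F] [Field K] [Fintype K] [DecidableEq K]
  [Algebra F K] [hK : Fact (Module.finrank F K = 2)]

local notation "q" => Fintype.card F

/-- Restriction of a function from `GL₂` to `SL₂`. -/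
def res (f : GL2 F → ℂ) : SL2 F → ℂ := fun g => f (Matrix.SpecialLinearGroup.toGL g)

omit [Fintype F] [DecidableEq F] in
theorem isChar_res {f : GL2 F → ℂ} (h : IsCharacter _ f) : IsCharacter _ (res f) :=
  isChar_comp Matrix.SpecialLinearGroup.toGL h

omit [Fintype F] [DecidableEq F] in
theorem isGen_res {f : GL2 F → ℂ} (h : IsGeneralizedCharacter _ f) :
    IsGeneralizedCharacter _ (res f) :=
  isGen_comp Matrix.SpecialLinearGroup.toGL h

omit [DecidableEq F] [Fintype K] [DecidableEq K] hK in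
theorem Vals.res {f : GL2 F → ℂ} {fZ fU : F → ℂ} {fT : F → F → ℂ} {fK : K → ℂ}
    (h : Vals (fun g : GL2 F => (g : Mat F)) f fZ fU fT fK) :
    Vals (fun g : SL2 F => (g : Mat F)) (res f) fZ fU fT fK :=
  h.pullback Matrix.SpecialLinearGroup.toGL

omit [Fintype F] [DecidableEq F] in
theorem SL2_det (g : SL2 F) : (g : Mat F).det = 1 := g.det_coe

omit [DecidableEq F] in
theorem card_SL2 : (Nat.card (SL2 F) : ℂ) = q * ((q : ℂ) ^ 2 - 1) := by
  rw [Cfsg.Agent.SL2.card_sl, Nat.cast_mul, Nat.cast_sub (Nat.one_le_pow _ _ Fintype.card_pos)]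
  simp

/-! ### The norm one torus -/

variable (F K) in
/-- The elements of norm one. -/
noncomputable def mu : Subgroup Kˣ := (Units.map (Algebra.norm F : K →* F)).ker

omit [Fintype F] [DecidableEq F] [Fintype K] [DecidableEq K] hK in
theorem mem_mu {z : Kˣ} : z ∈ mu F K ↔ Algebra.norm F (z : K) = 1 := by
  simp [mu, Units.ext_iff]

omit [DecidableEq F] [DecidableEq K] in
variable (F K) in
theorem card_mu : Nat.card (mu F K) = q + 1 := by
  have h1 := Subgroup.card_mul_index (mu F K)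
  rw [mu, Subgroup.index_ker, MonoidHom.range_eq_top.2 (FiniteField.unitsMap_norm_surjective F K),
    Subgroup.card_top, Nat.card_units, Nat.card_units, Nat.card_eq_fintype_card (α := F),
    Nat.card_eq_fintype_card (α := K), card_K (F := F) (K := K)] at h1
  have hq : 1 < q := Fintype.one_lt_card
  apply Nat.eq_of_mul_eq_mul_right (show 0 < q - 1 by omega)
  rw [mu, h1]
  have := Nat.sq_sub_sq q 1
  simpa using this

omit [DecidableEq F] [DecidableEq K] in
theorem pow_q_of_mem_mu (z : mu F K) : ((z : Kˣ) : K) ^ q = ((z⁻¹ : mu F K) : Kˣ) := by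
  have h1 := algebraMap_norm (F := F) ((z : Kˣ) : K)
  rw [mem_mu.mp z.2, map_one] at h1
  simpa using eq_inv_of_mul_eq_one_right h1.symm

/-- Restriction of a multiplicative character to the norm one torus. -/
noncomputable def resMu (F : Type*) {K : Type*} [Field F] [Field K] [Algebra F K]
    (θ : MulChar K ℂ) : mu F K →* ℂˣ :=
  θ.toUnitHom.comp (mu F K).subtype

omit [Fintype F] [DecidableEq F] [Fintype K] [DecidableEq K] hK in
theorem resMu_apply (θ : MulChar K ℂ) (z : mu F K) : (resMu F θ z : ℂ) = θ ((z : Kˣ) : K) :=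
  MulChar.coe_toUnitHom θ _

omit [Fintype F] [DecidableEq F] [DecidableEq K] hK in
theorem resMu_surjective : Function.Surjective (resMu F : MulChar K ℂ → (mu F K →* ℂˣ)) := by
  intro l
  obtain ⟨φ, hφ⟩ := MonoidHom.domRestrict_surjective ℂ (mu F K) l
  refine ⟨MulChar.ofUnitHom φ, ?_⟩
  rw [← hφ]
  ext z
  rw [resMu_apply, MulChar.ofUnitHom_coe]
  rfl

omit [DecidableEq F] [DecidableEq K] in
theorem resMu_eq_one_iff (θ : MulChar K ℂ) : resMu F θ = 1 ↔ θ ^ q = θ := by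
  constructor
  · intro h
    apply MulChar.ext
    intro z
    have h1 : z ^ q * z⁻¹ ∈ mu F K := by
      rw [mem_mu, Units.val_mul, map_mul, Units.val_pow_eq_pow_val, norm_frob, ← map_mul]
      simp
    have h2 := resMu_apply θ ⟨_, h1⟩
    rw [h] at h2
    simp only [MonoidHom.one_apply, Units.val_one, Units.val_mul, map_mul,
      Units.val_pow_eq_pow_val] at h2
    have h3 : θ z * θ (z⁻¹ : Kˣ) = 1 := by rw [← map_mul]; simp
    rw [pow_q_apply]
    linear_combination -θ z * h2 + -θ (z ^ q) * h3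
  · intro h
    obtain ⟨α, rfl⟩ := (card_pow_q_eq (F := F) (K := K)).2 θ h
    ext z
    rw [resMu_apply, normChar_apply, mem_mu.mp z.2]
    simp

noncomputable instance instFintypeMu : Fintype (mu F K) := Fintype.ofFinite _

omit [DecidableEq K] in
theorem sum_norm_one (h : K → ℂ) :
    ∑ z, (if Algebra.norm F z = 1 then h z else 0) = ∑ z : mu F K, h ((z : Kˣ) : K) := by
  rw [← Finset.sum_filter]
  symm
  refine Finset.sum_bij (fun z _ => ((z : Kˣ) : K)) ?_ ?_ ?_ ?_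
  · intro z _
    exact Finset.mem_filter.mpr ⟨Finset.mem_univ _, mem_mu.mp z.2⟩
  · intro a _ b _ hab
    exact Subtype.ext (Units.ext hab)
  · intro z hz
    have h1 := (Finset.mem_filter.mp hz).2
    have h2 : z ≠ 0 := by
      rintro rfl
      rw [norm_eq_zero_iff'.mpr rfl] at h1
      exact zero_ne_one h1
    exact ⟨⟨Units.mk0 z h2, mem_mu.mpr h1⟩, Finset.mem_univ _, rfl⟩
  · intro _ _; rfl

theorem hom_one_pow {A : Type*} [Group A] (n : ℕ) : (1 : A →* ℂˣ) ^ n = 1 := by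
  ext; simp

theorem hom_inv_inj {A : Type*} [Group A] (l l' : A →* ℂˣ) : l⁻¹ = l'⁻¹ ↔ l = l' :=
  inv_inj (G := A →* ℂˣ)

theorem hom_inv_eq_iff {A : Type*} [Group A] (l l' : A →* ℂˣ) : l⁻¹ = l' ↔ l = l'⁻¹ :=
  inv_eq_iff_eq_inv (G := A →* ℂˣ)

theorem hom_inv_inv {A : Type*} [Group A] (l : A →* ℂˣ) : l⁻¹⁻¹ = l := by
  ext; simp

theorem hom_sq_eq_one_iff {A : Type*} [Group A] (l : A →* ℂˣ) : l ^ 2 = 1 ↔ l = l⁻¹ := by
  rw [sq, mul_eq_one_iff_eq_inv]

omit [DecidableEq K] in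
theorem Vals.sum_SL' {f : SL2 F → ℂ} {fZ fU : F → ℂ} {fT : F → F → ℂ}
    {fK : K → ℂ} (h : Vals (fun g : SL2 F => (g : Mat F)) f fZ fU fT fK) :
    2 * ∑ g, f g = ∑ a, (if a * a = 1 then 2 * fZ a + 2 * ((q : ℂ) ^ 2 - 1) * fU a
        - ((q : ℂ) ^ 2 + q) * fT a a - ((q : ℂ) ^ 2 - q) * fK (algebraMap F K a) else 0)
      + ((q : ℂ) ^ 2 + q) * ∑ a : Fˣ, fT a (a : F)⁻¹
      + ((q : ℂ) ^ 2 - q) * ∑ z : mu F K, fK (z : Kˣ) := by
  rw [← sum_norm_one]
  convert h.sum_SL

open Classical in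
theorem sum_unitsHom_conj {A : Type*} [Group A] [Fintype A] (l l' : A →* ℂˣ) :
    ∑ a, (l a : ℂ) * conj (l' a : ℂ) = if l = l' then (Nat.card A : ℂ) else 0 := by
  have h1 := inner_irr (isIrr_unitsHom l) (isIrr_unitsHom l')
  unfold classInner at h1
  have h2 : (fun a => (l a : ℂ)) = (fun a => (l' a : ℂ)) ↔ l = l' :=
    ⟨fun h => MonoidHom.ext fun a => Units.ext (congrFun h a), fun h => by rw [h]⟩
  rw [inv_mul_eq_iff_eq_mul₀ card_ne_zero] at h1
  rw [h1]
  by_cases h : l = l'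
  · rw [if_pos h, if_pos (h2.mpr h), mul_one]
  · rw [if_neg h, if_neg (fun hh => h (h2.mp hh)), mul_zero]

open Classical in
theorem sum_units_mulChar_conj (α β : MulChar F ℂ) :
    ∑ a : Fˣ, α a * conj (β a) = if α = β then (q : ℂ) - 1 else 0 := by
  rw [← sum_mulChar_conj]
  refine Finset.sum_bij_ne_zero (fun a _ _ => (a : F)) (by simp) (fun _ _ _ _ _ _ h => Units.ext h)
    ?_ (fun _ _ _ => rfl)
  intro b _ hb
  have : b ≠ 0 := by rintro rfl; simp at hb
  exact ⟨Units.mk0 b this, Finset.mem_univ _, hb, rfl⟩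

/-! ### The characters -/

variable (F) in
/-- The Steinberg character of `SL₂`. -/
noncomputable def stSL : SL2 F → ℂ := res (st 1)

/-- The cuspidal characters of `SL₂`. -/
noncomputable def cuspSL (F : Type*) {K : Type*} [Field F] [Fintype F] [DecidableEq F] [Field K]
    [Fintype K] [DecidableEq K] [Algebra F K] [Fact (Module.finrank F K = 2)] (θ : MulChar K ℂ) :
    SL2 F → ℂ := res (cusp F θ)

theorem psSL_eq_res (α : MulChar F ℂ) : psSL α = res (ps α 1) := funext (psSL_eq α)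

omit [DecidableEq K] in
variable (F K) in
theorem vals_stSL : Vals (fun g : SL2 F => (g : Mat F)) (stSL F) (fun _ => q) (fun _ => 0)
    (fun _ _ => 1) (fun _ : K => -1) := by
  refine (vals_st K 1).res.congr (· = 1) SL2_det ?_ ?_ ?_ ?_
  · intro a h; simp [h]
  · intro a _; rfl
  · intro a b _ h; simp [h]
  · intro z _ h; simp [h]

omit [DecidableEq K] in
variable (K) in
theorem vals_psSL (α : MulChar F ℂ) : Vals (fun g : SL2 F => (g : Mat F)) (psSL α)
    (fun a => ((q : ℂ) + 1) * α a) (fun a => α a) (fun a b => α a + α b) (fun _ : K => 0) := by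
  rw [psSL_eq_res]
  refine (vals_ps K α 1).res.congr (· = 1) SL2_det ?_ ?_ ?_ ?_
  · intro a h; rw [MulChar.one_apply (IsUnit.of_mul_eq_one a h), mul_one]
  · intro a h; rw [MulChar.one_apply (IsUnit.of_mul_eq_one a h), mul_one]
  · intro a b _ h
    rw [MulChar.one_apply (IsUnit.of_mul_eq_one b h),
      MulChar.one_apply (IsUnit.of_mul_eq_one_right a h), mul_one, mul_one]
  · intro z _ _; rfl

theorem vals_cuspSL (θ : MulChar K ℂ) : Vals (fun g : SL2 F => (g : Mat F)) (cuspSL F θ)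
    (fun a => ((q : ℂ) - 1) * θ (algebraMap F K a))
    (fun a => -θ (algebraMap F K a)) (fun _ _ => 0) (fun z : K => -(θ z + θ (z ^ q))) :=
  (vals_cusp θ).res

omit [DecidableEq F] [Fintype K] [DecidableEq K] hK in
variable (F K) in
theorem vals_oneSL : Vals (fun g : SL2 F => (g : Mat F)) (fun _ => 1) (fun _ => 1) (fun _ => 1)
    (fun _ _ => 1) (fun _ : K => 1) :=
  ⟨fun _ _ => rfl, fun _ _ _ _ _ => rfl, fun _ _ _ _ _ _ => rfl, fun _ _ _ _ _ => rfl⟩

omit [Fintype F] [DecidableEq F] in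
theorem res_lin (α : MulChar F ℂ) : res (lin α) = fun _ => 1 := by
  funext g
  simp [res, lin]

theorem res_st (α : MulChar F ℂ) : res (st α) = stSL F := by
  rw [st_eq_mul]
  funext g
  have := congrFun (res_lin α) g
  simp only [res] at this
  simp [res, stSL, this]

theorem res_ps (α β : MulChar F ℂ) : res (ps α β) = psSL (α * β⁻¹) := by
  obtain ⟨K, _, _, _, _, _⟩ := exists_quad F
  have key : ∀ a b : F, a * b = 1 → (α * β⁻¹) a = α a * β b := by
    intro a b h
    rw [MulChar.mul_apply, MulChar.inv_apply', ← eq_inv_of_mul_eq_one_right h]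
  refine Vals.ext (· = 1) SL2_det (vals_ps K α β).res (vals_psSL K _) ?_ ?_ ?_ ?_
  · intro a h; rw [key a a h]
  · intro a h; rw [key a a h]
  · intro a b _ h; rw [key a b h, key b a (by rw [mul_comm, h])]
  · intro z _ _; rfl

theorem psSL_one : psSL (1 : MulChar F ℂ) = stSL F + fun _ => 1 := by
  rw [psSL_eq_res, ps_self, ← res_lin (1 : MulChar F ℂ)]
  rfl

theorem psSL_apply_one (α : MulChar F ℂ) : psSL α 1 = (q : ℂ) + 1 := by
  rw [psSL_eq, map_one, ps_one]

theorem stSL_apply_one : stSL F 1 = q := by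
  rw [stSL, res, map_one, st_one]

theorem cuspSL_apply_one (θ : MulChar K ℂ) : cuspSL F θ 1 = (q : ℂ) - 1 := by
  rw [cuspSL, res, map_one, cusp_one]

theorem isGen_cuspSL (θ : MulChar K ℂ) : IsGeneralizedCharacter _ (cuspSL F θ) :=
  isGen_res (isGen_cusp θ)

theorem isChar_cuspSL {θ : MulChar K ℂ} (h : resMu F θ ≠ 1) : IsCharacter _ (cuspSL F θ) :=
  isChar_res (isChar_of_irr (isIrr_cusp ((resMu_eq_one_iff θ).not.mp h)))

/-! ### Inner products -/

omit [DecidableEq K] in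
theorem inner_of_vals_SL {f f' : SL2 F → ℂ} {fZ fU fZ' fU' : F → ℂ} {fT fT' : F → F → ℂ}
    {fK fK' : K → ℂ} (h : Vals (fun g : SL2 F => (g : Mat F)) f fZ fU fT fK)
    (h' : Vals (fun g : SL2 F => (g : Mat F)) f' fZ' fU' fT' fK')
    (hdiag : ∀ a, 2 * (fZ a * conj (fZ' a)) + 2 * ((q : ℂ) ^ 2 - 1) * (fU a * conj (fU' a))
        - ((q : ℂ) ^ 2 + q) * (fT a a * conj (fT' a a))
        - ((q : ℂ) ^ 2 - q) * (fK (algebraMap F K a) * conj (fK' (algebraMap F K a))) = 0)
    {x y : ℂ} (hx : ∑ a : Fˣ, fT a (a : F)⁻¹ * conj (fT' a (a : F)⁻¹) = 2 * ((q : ℂ) - 1) * x)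
    (hy : ∑ z : mu F K, fK (z : Kˣ) * conj (fK' (z : Kˣ)) = 2 * ((q : ℂ) + 1) * y) :
    classInner f f' = x + y := by
  have h1 := (Vals.map₂ (fun a b => a * conj b) h h').sum_SL'
  simp only [hdiag, ite_self, Finset.sum_const_zero, zero_add, hx, hy] at h1
  unfold classInner
  rw [card_SL2]
  have h2 : ∑ g, f g * conj (f' g) = q * ((q : ℂ) ^ 2 - 1) * (x + y) := by
    linear_combination h1 / 2
  rw [h2, ← mul_assoc, inv_mul_cancel₀ (by rw [← card_SL2]; exact card_ne_zero), one_mul]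

open Classical in
theorem inner_psSL_psSL (α β : MulChar F ℂ) :
    classInner (psSL α) (psSL β) = (if α = β then 1 else 0) + (if α = β⁻¹ then 1 else 0) := by
  obtain ⟨K, _, _, _, _, _⟩ := exists_quad F
  rw [← add_zero (_ + _)]
  refine inner_of_vals_SL (vals_psSL K α) (vals_psSL K β) ?_ ?_ (by simp)
  · intro a
    simp only [map_mul, map_add, map_natCast, map_one]
    ring
  · have h1 := sum_units_mulChar_conj α β
    have h2 := sum_units_mulChar_conj α β⁻¹
    have h3 := sum_units_mulChar_conj α⁻¹ β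
    have h4 := sum_units_mulChar_conj α⁻¹ β⁻¹
    simp only [inv_eq_iff_eq_inv] at h3 h4
    have : ∀ a : F, (α a + α a⁻¹) * conj (β a + β a⁻¹) =
        α a * conj (β a) + α a * conj (β⁻¹ a) + α⁻¹ a * conj (β a) + α⁻¹ a * conj (β⁻¹ a) := by
      intro a
      simp only [MulChar.inv_apply', map_add]
      ring
    simp only [this, Finset.sum_add_distrib, h1, h2, h3, h4, inv_inv]
    split_ifs <;> ring

open Classical in
theorem inner_psSL_one (α : MulChar F ℂ) :
    classInner (psSL α) (fun _ => 1) = if α = 1 then 1 else 0 := by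
  obtain ⟨K, _, _, _, _, _⟩ := exists_quad F
  rw [← add_zero (ite _ _ _)]
  refine inner_of_vals_SL (vals_psSL K α) (vals_oneSL F K) ?_ ?_ (by simp)
  · intro a
    simp only [map_one]
    ring
  · have h1 := sum_units_mulChar_conj α 1
    have h3 := sum_units_mulChar_conj α⁻¹ 1
    simp only [inv_eq_one, MulChar.one_apply_coe, MulChar.inv_apply'] at h1 h3
    simp only [add_mul, Finset.sum_add_distrib, h1, h3]
    split_ifs <;> ring

open Classical in
theorem inner_cuspSL_cuspSL (θ θ' : MulChar K ℂ) :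
    classInner (cuspSL F θ) (cuspSL F θ') = (if resMu F θ = resMu F θ' then 1 else 0) +
      (if resMu F θ = (resMu F θ')⁻¹ then 1 else 0) := by
  rw [← zero_add (_ + _)]
  refine inner_of_vals_SL (vals_cuspSL θ) (vals_cuspSL θ') ?_ (by simp) ?_
  · intro a
    simp only [map_mul, map_add, map_sub, map_natCast, map_one, map_neg, frob_algebraMap]
    ring
  · have h1 := sum_unitsHom_conj (resMu F θ) (resMu F θ')
    have h2 := sum_unitsHom_conj (resMu F θ) (resMu F θ')⁻¹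
    have h3 := sum_unitsHom_conj (resMu F θ)⁻¹ (resMu F θ')
    have h4 := sum_unitsHom_conj (resMu F θ)⁻¹ (resMu F θ')⁻¹
    simp only [hom_inv_eq_iff, hom_inv_inv] at h3 h4
    have key : ∀ (θ : MulChar K ℂ) (z : mu F K), θ (((z : Kˣ) : K) ^ q) = ((resMu F θ)⁻¹ z : ℂˣ) := by
      intro θ z
      rw [pow_q_of_mem_mu, ← resMu_apply, map_inv]
      rfl
    have : ∀ z : mu F K, -(θ (z : Kˣ) + θ (((z : Kˣ) : K) ^ q)) *
        conj (-(θ' (z : Kˣ) + θ' (((z : Kˣ) : K) ^ q))) =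
        (resMu F θ z : ℂ) * conj (resMu F θ' z : ℂ) +
        (resMu F θ z : ℂ) * conj (((resMu F θ')⁻¹ z : ℂˣ) : ℂ) +
        (((resMu F θ)⁻¹ z : ℂˣ) : ℂ) * conj (resMu F θ' z : ℂ) +
        (((resMu F θ)⁻¹ z : ℂˣ) : ℂ) * conj (((resMu F θ')⁻¹ z : ℂˣ) : ℂ) := by
      intro z
      simp only [key, resMu_apply, map_add, map_neg]
      ring
    simp only [this, Finset.sum_add_distrib, h1, h2, h3, h4, card_mu F K]
    push_cast
    split_ifs <;> ring

/-! ### Irreducibility -/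

theorem isIrr_stSL : IsIrrCharacter _ (stSL F) := by
  have h1 : stSL F = psSL 1 - fun _ => 1 := by rw [psSL_one]; simp
  refine isIrr_of_isChar_of_norm_one (isChar_res (isChar_of_irr (isIrr_st 1))) ?_
  rw [h1, CharLib.inner_sub_left, CharLib.inner_sub_right, CharLib.inner_sub_right,
    inner_psSL_psSL, inner_psSL_one, inner_irr_self isIrr_one,
    inner_char_comm isChar_one (isChar_psSL 1), inner_psSL_one]
  simp

theorem isIrr_psSL_iff (α : MulChar F ℂ) : IsIrrCharacter _ (psSL α) ↔ α ^ 2 ≠ 1 := by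
  rw [isIrr_iff_norm_one (isChar_psSL α), inner_psSL_psSL, sq, Ne, mul_eq_one_iff_eq_inv]
  by_cases h : α = α⁻¹
  · rw [if_pos rfl, if_pos h]
    simp [← h]
  · simp [h]

theorem isIrr_cuspSL {θ : MulChar K ℂ} (h : resMu F θ ^ 2 ≠ 1) :
    IsIrrCharacter _ (cuspSL F θ) := by
  refine isIrr_of_isChar_of_norm_one (isChar_cuspSL (fun hh => h (by rw [hh, hom_one_pow]))) ?_
  rw [sq, Ne, mul_eq_one_iff_eq_inv] at h
  rw [inner_cuspSL_cuspSL]
  simp [h]

theorem psSL_inv (α : MulChar F ℂ) : psSL α⁻¹ = psSL α := by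
  rw [psSL_eq_res α, ps_comm, res_ps, one_mul]

theorem psSL_eq_iff (α β : MulChar F ℂ) : psSL α = psSL β ↔ α = β ∨ α = β⁻¹ := by
  constructor
  · intro h
    by_contra hc
    rw [not_or] at hc
    have h1 := inner_psSL_psSL α β
    rw [if_neg hc.1, if_neg hc.2, add_zero, ← h] at h1
    have h2 := congrFun (CharLib.inner_self_eq_zero h1) 1
    rw [psSL_apply_one] at h2
    exact q_add_one_ne h2
  · rintro (rfl | rfl)
    · rfl
    · exact psSL_inv _

theorem cuspSL_eq_iff (θ θ' : MulChar K ℂ) :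
    cuspSL F θ = cuspSL F θ' ↔ resMu F θ = resMu F θ' ∨ resMu F θ = (resMu F θ')⁻¹ := by
  constructor
  · intro h
    by_contra hc
    rw [not_or] at hc
    have h1 := inner_cuspSL_cuspSL (F := F) θ θ'
    rw [if_neg hc.1, if_neg hc.2, add_zero, ← h] at h1
    have h2 := congrFun (CharLib.inner_self_eq_zero h1) 1
    rw [cuspSL_apply_one] at h2
    exact q_sub_one_ne h2
  · intro h
    have key : ∀ z : K, Algebra.norm F z = 1 → θ z + θ (z ^ q) = θ' z + θ' (z ^ q) := by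
      intro z hz
      have h2 : z ≠ 0 := by
        rintro rfl
        rw [norm_eq_zero_iff'.mpr rfl] at hz
        exact zero_ne_one hz
      let w : mu F K := ⟨Units.mk0 z h2, mem_mu.mpr hz⟩
      have h3 : z = (w : Kˣ) := rfl
      rw [h3, pow_q_of_mem_mu, ← resMu_apply (F := F), ← resMu_apply (F := F),
        ← resMu_apply (F := F), ← resMu_apply (F := F)]
      rcases h with h | h
      · rw [h]
      · rw [h, add_comm]; simp
    have key2 : ∀ a : F, a * a = 1 → θ (algebraMap F K a) = θ' (algebraMap F K a) := by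
      intro a ha
      have := key (algebraMap F K a) (by rw [norm_algebraMap', ha])
      rw [frob_algebraMap] at this
      linear_combination this / 2
    refine Vals.ext (· = 1) SL2_det (vals_cuspSL θ) (vals_cuspSL θ') ?_ ?_ ?_ ?_
    · intro a ha; rw [key2 a ha]
    · intro a ha; rw [key2 a ha]
    · intro _ _ _ _; rfl
    · intro z _ hz; rw [key z hz]

/-! ### The halves -/

/-- `Φ` is the sum of the two distinct irreducible characters `χ`, `χ'`, which are conjugate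
under `GL₂`. -/
structure HalfPair (Φ χ χ' : SL2 F → ℂ) : Prop where
  irr : IsIrrCharacter _ χ
  irr' : IsIrrCharacter _ χ'
  ne : χ ≠ χ'
  eq : Φ = χ + χ'
  cnj : ∃ x : GL2 F, ∀ a b : SL2 F, Matrix.SpecialLinearGroup.toGL b =
    x * Matrix.SpecialLinearGroup.toGL a * x⁻¹ → χ' b = χ a

omit [Fintype F] [DecidableEq F] in
theorem HalfPair.symm {Φ χ χ' : SL2 F → ℂ} (h : HalfPair Φ χ χ') : HalfPair Φ χ' χ where
  irr := h.irr'
  irr' := h.irr
  ne := h.ne.symm
  eq := by rw [h.eq, add_comm]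
  cnj := by
    obtain ⟨x, hx⟩ := h.cnj
    refine ⟨x⁻¹, fun a b hab => (hx b a ?_).symm⟩
    rw [hab]; group

omit [Fintype F] [DecidableEq F] in
theorem toGL_range_normal :
    (Matrix.SpecialLinearGroup.toGL : SL2 F →* GL2 F).range.Normal := by
  constructor
  rintro _ ⟨a, rfl⟩ x
  refine ⟨⟨((x * Matrix.SpecialLinearGroup.toGL a * x⁻¹ : GL2 F) : Mat F), ?_⟩, Units.ext rfl⟩
  rw [← det_eq_of_isConj (isConj_iff.mpr ⟨x, rfl⟩)]
  exact a.det_coe

theorem exists_halfPair {Φ : GL2 F → ℂ} (hΦ : IsIrrCharacter _ Φ)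
    (h : classInner (res Φ) (res Φ) = 2) : ∃ χ χ', HalfPair (res Φ) χ χ' := by
  obtain ⟨χ, χ', h1, h2, h3, h4⟩ := exists_add_of_norm_two (isChar_res (isChar_of_irr hΦ)) h
  refine ⟨χ, χ', h1, h2, h3, h4, clifford_conj _ Matrix.SpecialLinearGroup.toGL_injective
    toGL_range_normal hΦ h1 h2 ?_ ?_⟩
  · change classInner χ (res Φ) ≠ 0
    rw [h4, CharLib.inner_add_right, inner_irr_self h1, inner_irr_ne h1 h2 h3]
    simp
  · change classInner χ' (res Φ) ≠ 0
    rw [h4, CharLib.inner_add_right, inner_irr_self h2, inner_irr_ne h2 h1 h3.symm]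
    simp

theorem exists_halfPair_ps {α : MulChar F ℂ} (h1 : α ≠ 1) (h2 : α ^ 2 = 1) :
    ∃ χ χ', HalfPair (psSL α) χ χ' := by
  rw [psSL_eq_res]
  apply exists_halfPair (isIrr_ps h1)
  rw [sq, mul_eq_one_iff_eq_inv] at h2
  rw [← psSL_eq_res, inner_psSL_psSL, if_pos rfl, if_pos h2]
  norm_num

theorem exists_halfPair_cusp {θ : MulChar K ℂ} (h1 : resMu F θ ≠ 1) (h2 : resMu F θ ^ 2 = 1) :
    ∃ χ χ', HalfPair (cuspSL F θ) χ χ' := by
  apply exists_halfPair (isIrr_cusp ((resMu_eq_one_iff θ).not.mp h1))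
  rw [sq, mul_eq_one_iff_eq_inv] at h2
  change classInner (cuspSL F θ) (cuspSL F θ) = 2
  rw [inner_cuspSL_cuspSL, if_pos rfl, if_pos h2]
  norm_num

theorem HalfPair.of_inner {Φ χ₁ χ₂ χ : SL2 F → ℂ} (h : HalfPair Φ χ₁ χ₂)
    (hχ : IsIrrCharacter _ χ) (hne : classInner χ Φ ≠ 0) : ∃ χ', HalfPair Φ χ χ' := by
  rw [h.eq] at hne
  rcases eq_or_eq_of_inner_add_ne_zero hχ h.irr h.irr' hne with rfl | rfl
  · exact ⟨_, h⟩
  · exact ⟨_, h.symm⟩

theorem HalfPair.eq_or_eq {Φ χ₁ χ₂ χ χ' : SL2 F → ℂ} (h : HalfPair Φ χ₁ χ₂)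
    (h' : HalfPair Φ χ χ') : χ = χ₁ ∨ χ = χ₂ := by
  apply eq_or_eq_of_inner_add_ne_zero h'.irr h.irr h.irr'
  rw [← h.eq, h'.eq, CharLib.inner_add_right, inner_irr_self h'.irr,
    inner_irr_ne h'.irr h'.irr' h'.ne]
  simp

variable (K) in
/-- The irreducible characters of `SL₂`. -/
theorem isIrr_SL2_cases {χ : SL2 F → ℂ} (hχ : IsIrrCharacter _ χ) :
    χ = (fun _ => 1) ∨ χ = stSL F ∨ (∃ α : MulChar F ℂ, α ^ 2 ≠ 1 ∧ χ = psSL α) ∨
      (∃ θ : MulChar K ℂ, resMu F θ ^ 2 ≠ 1 ∧ χ = cuspSL F θ) ∨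
      (∃ α : MulChar F ℂ, α ≠ 1 ∧ α ^ 2 = 1 ∧ ∃ χ', HalfPair (psSL α) χ χ') ∨
      (∃ θ : MulChar K ℂ, resMu F θ ≠ 1 ∧ resMu F θ ^ 2 = 1 ∧
        ∃ χ', HalfPair (cuspSL F θ) χ χ') := by
  obtain ⟨Φ, hΦ, hne⟩ := exists_irr_over _ Matrix.SpecialLinearGroup.toGL_injective hχ
  change classInner χ (res Φ) ≠ 0 at hne
  rcases (isIrr_GL2_iff K Φ).mp hΦ with ⟨α, rfl⟩ | ⟨α, rfl⟩ | ⟨α, β, h, rfl⟩ | ⟨θ, h, rfl⟩
  · rw [res_lin] at hne
    exact Or.inl (eq_of_inner_ne_zero hχ isIrr_one hne)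
  · rw [res_st] at hne
    exact Or.inr (Or.inl (eq_of_inner_ne_zero hχ isIrr_stSL hne))
  · rw [res_ps] at hne
    by_cases h2 : (α * β⁻¹) ^ 2 = 1
    · have h1 : α * β⁻¹ ≠ 1 := by rwa [Ne, mul_inv_eq_one]
      obtain ⟨χ₁, χ₂, h3⟩ := exists_halfPair_ps h1 h2
      exact Or.inr (Or.inr (Or.inr (Or.inr (Or.inl ⟨_, h1, h2, h3.of_inner hχ hne⟩))))
    · exact Or.inr (Or.inr (Or.inl ⟨_, h2,
        eq_of_inner_ne_zero hχ ((isIrr_psSL_iff _).mpr h2) hne⟩))
  · have h1 : resMu F θ ≠ 1 := (resMu_eq_one_iff θ).not.mpr h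
    by_cases h2 : resMu F θ ^ 2 = 1
    · obtain ⟨χ₁, χ₂, h3⟩ := exists_halfPair_cusp h1 h2
      exact Or.inr (Or.inr (Or.inr (Or.inr (Or.inr ⟨_, h1, h2, h3.of_inner hχ hne⟩))))
    · exact Or.inr (Or.inr (Or.inr (Or.inl ⟨_, h2,
        eq_of_inner_ne_zero hχ (isIrr_cuspSL h2) hne⟩)))

end Cfsg.Agent.GL2Char
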