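import Cfsg.Agent.GL2Char.Principal

/-!
# The character table of `GL₂`
-/

set_option autoImplicit false

namespace Cfsg.Agent.GL2Char

open Cfsg Cfsg.Agent.CharLib
open scoped ComplexConjugate

attribute [local simp] MulChar.map_zero

section mulchar

variable {F : Type*} [Field F] [Fintype F]

noncomputable instance instFintypeMulChar : Fintype (MulChar F ℂ) := Fintype.ofFinite _

theorem card_mulChar : Nat.card (MulChar F ℂ) = Fintype.card F - 1 := by
  rw [MulChar.card_eq_card_units_of_hasEnoughRootsOfUnity, Nat.card_units, Nat.card_eq_fintype_card]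

theorem conj_mulChar (α : MulChar F ℂ) (a : F) : conj (α a) = α⁻¹ a := MulChar.star_apply' α a

open Classical in
theorem sum_mulChar_apply (α : MulChar F ℂ) :
    ∑ a, α a = if α = 1 then (Fintype.card F : ℂ) - 1 else 0 := by
  split_ifs with h
  · rw [h, MulChar.sum_one_eq_card_units, Fintype.card_units, Nat.cast_sub Fintype.card_pos]
    simp
  · exact MulChar.sum_eq_zero_of_ne_one h

open Classical in
theorem sum_mulChar_conj (α β : MulChar F ℂ) :
    ∑ a, α a * conj (β a) = if α = β then (Fintype.card F : ℂ) - 1 else 0 := by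
  simp only [conj_mulChar, ← MulChar.mul_apply, sum_mulChar_apply, mul_inv_eq_one]

open Classical in
theorem sum_over_mulChar (a : F) :
    ∑ α : MulChar F ℂ, α a = if a = 1 then (Fintype.card F : ℂ) - 1 else 0 := by
  split_ifs with h
  · simp only [h, map_one, Finset.sum_const, Finset.card_univ, nsmul_eq_mul, mul_one]
    rw [← Nat.card_eq_fintype_card, card_mulChar, Nat.cast_sub Fintype.card_pos]
    simp
  · obtain ⟨χ, hχ⟩ := MulChar.exists_apply_ne_one_of_hasEnoughRootsOfUnity F ℂ h
    refine eq_zero_of_mul_eq_self_left hχ ?_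
    simp only [Finset.mul_sum, ← MulChar.mul_apply]
    exact Fintype.sum_bijective _ (Group.mulLeft_bijective χ) _ _ fun _ => rfl

theorem isCyclic_mulChar : IsCyclic (MulChar F ℂ) :=
  (MulChar.mulEquiv_units F ℂ).some.isCyclic.mpr inferInstance

end mulchar

variable {F K : Type*} [Field F] [Fintype F] [DecidableEq F] [Field K] [Fintype K] [DecidableEq K]
  [Algebra F K] [hK : Fact (Module.finrank F K = 2)]

local notation "q" => Fintype.card F

/-- Restriction of a multiplicative character to the base field. -/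
noncomputable def resF (F : Type*) {K : Type*} [Field F] [Field K] [Algebra F K]
    (θ : MulChar K ℂ) : MulChar F ℂ where
  toFun a := θ (algebraMap F K a)
  map_one' := by simp
  map_mul' := by simp
  map_nonunit' a ha := by
    have : a = 0 := by simpa using ha
    simp [this]

omit [Fintype F] [DecidableEq F] [Fintype K] [DecidableEq K] hK in
theorem resF_apply (θ : MulChar K ℂ) (a : F) : resF F θ a = θ (algebraMap F K a) := rfl

/-- Composition of a multiplicative character with the norm. -/
noncomputable def normChar (K : Type*) {F : Type*} [Field F] [Fintype F] [Field K] [Fintype K]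
    [Algebra F K] [Fact (Module.finrank F K = 2)] (α : MulChar F ℂ) : MulChar K ℂ where
  toFun z := α (Algebra.norm F z)
  map_one' := by simp
  map_mul' := by simp
  map_nonunit' z hz := by
    have : z = 0 := by simpa using hz
    rw [this, norm_eq_zero_iff'.mpr rfl, MulChar.map_zero]

omit [DecidableEq F] [DecidableEq K] in
theorem normChar_apply (α : MulChar F ℂ) (z : K) : normChar K α z = α (Algebra.norm F z) := rfl

omit [DecidableEq F] [DecidableEq K] in
theorem normChar_injective : Function.Injective (normChar K : MulChar F ℂ → MulChar K ℂ) := by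
  intro α β h
  apply MulChar.ext'
  intro a
  obtain ⟨z, rfl⟩ := FiniteField.norm_surjective F K a
  exact DFunLike.congr_fun h z

omit [DecidableEq F] [DecidableEq K] hK [Algebra F K] [Fintype K] in
theorem pow_q_apply (θ : MulChar K ℂ) (z : K) : (θ ^ q) z = θ (z ^ q) := by
  rw [MulChar.pow_apply' _ Fintype.card_ne_zero, map_pow]

omit [DecidableEq F] [DecidableEq K] in
theorem pow_q_pow_q (θ : MulChar K ℂ) : (θ ^ q) ^ q = θ := by
  apply MulChar.ext'
  intro z
  rw [pow_q_apply, pow_q_apply, frob_frob]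

omit [DecidableEq F] [DecidableEq K] in
theorem normChar_pow_q (α : MulChar F ℂ) : normChar K α ^ q = normChar K α := by
  apply MulChar.ext'
  intro z
  rw [pow_q_apply, normChar_apply, normChar_apply, norm_frob]

omit [DecidableEq F] [DecidableEq K] in
theorem card_pow_q_eq : Nat.card {θ : MulChar K ℂ // θ ^ q = θ} = q - 1 ∧
    ∀ θ : MulChar K ℂ, θ ^ q = θ → ∃ α : MulChar F ℂ, θ = normChar K α := by
  classical
  have hq : 1 < q := Fintype.one_lt_card
  have := isCyclic_mulChar (F := K)
  have h1 : Nat.card {θ : MulChar K ℂ // θ ^ q = θ} ≤ q - 1 := by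
    have h2 := IsCyclic.card_pow_eq_one_le (α := MulChar K ℂ) (n := q - 1) (by omega)
    rw [Nat.card_eq_fintype_card, Fintype.card_subtype]
    convert h2 using 3 with θ
    constructor
    · intro h
      have : θ ^ (q - 1) * θ = 1 * θ := by
        rw [← pow_succ, Nat.sub_add_cancel hq.le, h, one_mul]
      exact mul_right_cancel this
    · intro h
      rw [← Nat.sub_add_cancel hq.le, pow_succ, h, one_mul]
  let f : MulChar F ℂ → {θ : MulChar K ℂ // θ ^ q = θ} := fun α => ⟨normChar K α, normChar_pow_q α⟩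
  have hf : Function.Injective f := fun α β h => normChar_injective (congrArg Subtype.val h)
  have h3 := Nat.card_le_card_of_injective f hf
  rw [card_mulChar] at h3
  have h4 : Nat.card {θ : MulChar K ℂ // θ ^ q = θ} = q - 1 := le_antisymm h1 h3
  refine ⟨h4, fun θ hθ => ?_⟩
  have hb : Function.Bijective f :=
    (Nat.bijective_iff_injective_and_card f).mpr ⟨hf, by rw [card_mulChar, h4]⟩
  obtain ⟨α, hα⟩ := hb.2 ⟨θ, hθ⟩
  exact ⟨α, (congrArg Subtype.val hα).symm⟩

/-- The linear characters of `GL₂`. -/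
noncomputable def lin (α : MulChar F ℂ) : GL2 F → ℂ := fun g => α (g : Mat F).det

omit [Fintype F] [DecidableEq F] in
theorem isIrr_lin (α : MulChar F ℂ) : IsIrrCharacter _ (lin α) :=
  isIrr_of_mul (by simp [lin]) (by simp [lin])

omit [Fintype K] [DecidableEq K] hK [DecidableEq F] in
variable (K) in
theorem vals_lin (α : MulChar F ℂ) :
    Vals (fun g : GL2 F => (g : Mat F)) (lin α) (fun a => α (a * a))
      (fun a => α (a * a)) (fun a b => α (a * b)) (fun z : K => α (Algebra.norm F z)) where
  sc g h := by rw [lin, h.det]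
  un g a _ _ h := by rw [lin, h]
  dg g a b _ _ h := by rw [lin, h]
  el g z _ _ h := by rw [lin, h]

/-- The twisted Steinberg characters of `GL₂`. -/
noncomputable def st (α : MulChar F ℂ) : GL2 F → ℂ := ps α α - lin α

omit [DecidableEq K] in
variable (K) in
theorem vals_st (α : MulChar F ℂ) :
    Vals (fun g : GL2 F => (g : Mat F)) (st α) (fun a => q * α (a * a))
      (fun _ => 0) (fun a b => α (a * b)) (fun z : K => -α (Algebra.norm F z)) := by
  refine (Vals.map₂ (· - ·) (vals_ps K α α) (vals_lin K α)).congr (fun _ => True)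
    (fun _ => trivial) ?_ ?_ ?_ ?_
  · intro a _; simp only [map_mul]; ring
  · intro a _; simp only [map_mul]; ring
  · intro a b _ _; simp only [map_mul]; ring
  · intro z _ _; simp

/-- The cuspidal characters of `GL₂`. -/
noncomputable def cusp (F : Type*) {K : Type*} [Field F] [Fintype F] [DecidableEq F] [Field K]
    [Fintype K] [DecidableEq K] [Algebra F K] [Fact (Module.finrank F K = 2)] (θ : MulChar K ℂ) :
    GL2 F → ℂ :=
  st 1 * ps (resF F θ) 1 - ps (resF F θ) 1 - indK F θ

theorem isGen_st (α : MulChar F ℂ) : IsGeneralizedCharacter _ (st α) :=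
  isGen_sub (isGen_of_isChar (isChar_ps α α)) (isGen_of_irr (isIrr_lin α))

theorem isGen_cusp (θ : MulChar K ℂ) : IsGeneralizedCharacter _ (cusp F θ) :=
  isGen_sub (isGen_sub (isGen_mul (isGen_st 1) (isGen_of_isChar (isChar_ps _ _)))
    (isGen_of_isChar (isChar_ps _ _))) (isGen_of_isChar (isChar_indK θ))

theorem vals_cusp (θ : MulChar K ℂ) :
    Vals (fun g : GL2 F => (g : Mat F)) (cusp F θ)
      (fun a => ((q : ℂ) - 1) * θ (algebraMap F K a))
      (fun a => -θ (algebraMap F K a)) (fun _ _ => 0) (fun z : K => -(θ z + θ (z ^ q))) := by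
  refine (Vals.map₂ (· - ·) (Vals.map₂ (· - ·) (Vals.map₂ (· * ·) (vals_st K 1)
    (vals_ps K (resF F θ) 1)) (vals_ps K (resF F θ) 1)) (vals_indK θ)).congr (· ≠ 0)
    GL2_det_ne_zero ?_ ?_ ?_ ?_
  · intro a ha
    have h1 : (1 : MulChar F ℂ) a = 1 := MulChar.one_apply (left_ne_zero_of_mul ha).isUnit
    simp only [map_mul, h1, resF_apply]; ring
  · intro a ha
    have h1 : (1 : MulChar F ℂ) a = 1 := MulChar.one_apply (left_ne_zero_of_mul ha).isUnit
    simp only [h1, resF_apply]; ring
  · intro a b _ hab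
    have h1 : (1 : MulChar F ℂ) (a * b) = 1 := MulChar.one_apply hab.isUnit
    simp only [h1]; ring
  · intro z _ _; simp

/-! ### Inner products -/

omit [DecidableEq K] in
theorem inner_of_vals {f f' : GL2 F → ℂ} {fZ fU fZ' fU' : F → ℂ} {fT fT' : F → F → ℂ}
    {fK fK' : K → ℂ} (h : Vals (fun g : GL2 F => (g : Mat F)) f fZ fU fT fK)
    (h' : Vals (fun g : GL2 F => (g : Mat F)) f' fZ' fU' fT' fK')
    (hZ : fZ 0 = 0) (hU : fU 0 = 0) (hT1 : ∀ a, fT a 0 = 0) (hT2 : ∀ a, fT 0 a = 0)
    (hE : fK 0 = 0)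
    (hdiag : ∀ a, 2 * (fZ a * conj (fZ' a)) + 2 * ((q : ℂ) ^ 2 - 1) * (fU a * conj (fU' a))
        - ((q : ℂ) ^ 2 + q) * (fT a a * conj (fT' a a))
        - ((q : ℂ) ^ 2 - q) * (fK (algebraMap F K a) * conj (fK' (algebraMap F K a))) = 0)
    {x y : ℂ} (hx : ∑ a, ∑ b, fT a b * conj (fT' a b) = 2 * ((q : ℂ) - 1) ^ 2 * x)
    (hy : ∑ z, fK z * conj (fK' z) = 2 * ((q : ℂ) ^ 2 - 1) * y) :
    classInner f f' = x + y := by
  have h1 := (Vals.map₂ (fun a b => a * conj b) h h').sum_GL (by simp [hZ]) (by simp [hU])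
    (by simp [hT1]) (by simp [hT2]) (by simp [hE])
  simp only [hdiag, Finset.sum_const_zero, zero_add, hx, hy] at h1
  unfold classInner
  rw [card_GL2]
  have h2 : ∑ g, f g * conj (f' g) = ((q : ℂ) ^ 2 - 1) * ((q : ℂ) ^ 2 - q) * (x + y) := by
    linear_combination h1 / 2
  rw [h2, ← mul_assoc, inv_mul_cancel₀ (by rw [← card_GL2]; exact card_ne_zero), one_mul]

omit [DecidableEq F] in
open Classical in
theorem sum_sum_mulChar (α β α' β' : MulChar F ℂ) :
    ∑ a, ∑ b, α a * β b * conj (α' a * β' b) =
      ((q : ℂ) - 1) ^ 2 * if α = α' ∧ β = β' then 1 else 0 := by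
  have : ∀ a b, α a * β b * conj (α' a * β' b) = (α a * conj (α' a)) * (β b * conj (β' b)) := by
    intro a b; rw [map_mul]; ring
  simp only [this, ← Finset.mul_sum, ← Finset.sum_mul, sum_mulChar_conj]
  by_cases h1 : α = α' <;> by_cases h2 : β = β' <;> simp [h1, h2, sq]

/-- A quadratic extension exists. -/
theorem exists_quad (F : Type*) [Field F] [Fintype F] :
    ∃ (K : Type) (_ : Field K) (_ : Fintype K) (_ : DecidableEq K) (_ : Algebra F K),
      Fact (Module.finrank F K = 2) := by
  obtain ⟨p, hp, n, hpp, -⟩ := FiniteField.card' F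
  have : Fact p.Prime := ⟨hpp⟩
  exact ⟨FiniteField.Extension F p 2, inferInstance, Fintype.ofFinite _, Classical.decEq _,
    inferInstance, ⟨FiniteField.finrank_extension F p 2⟩⟩

open Classical in
theorem inner_ps_ps (α β α' β' : MulChar F ℂ) :
    classInner (ps α β) (ps α' β') =
      (if α = α' ∧ β = β' then 1 else 0) + (if α = β' ∧ β = α' then 1 else 0) := by
  obtain ⟨K, _, _, _, _, _⟩ := exists_quad F
  rw [← add_zero (_ + _)]
  refine inner_of_vals (vals_ps K α β) (vals_ps K α' β') (by simp) (by simp) (by simp) (by simp)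
    rfl ?_ ?_ (by simp)
  · intro a
    simp only [map_mul, map_add, map_natCast, map_one]
    ring
  · have h1 := sum_sum_mulChar α β α' β'
    have h2 := sum_sum_mulChar α β β' α'
    have h3 := sum_sum_mulChar β α α' β'
    have h4 := sum_sum_mulChar β α β' α'
    simp only [and_comm (a := β = α'), and_comm (a := β = β')] at h3 h4
    have : ∀ a b, (α a * β b + α b * β a) * conj (α' a * β' b + α' b * β' a) =
        α a * β b * conj (α' a * β' b) + α a * β b * conj (β' a * α' b) +
        β a * α b * conj (α' a * β' b) + β a * α b * conj (β' a * α' b) := by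
      intro a b
      simp only [map_mul, map_add]
      ring
    simp only [this, Finset.sum_add_distrib, h1, h2, h3, h4]
    ring

open Classical in
theorem inner_ps_lin (α β γ : MulChar F ℂ) :
    classInner (ps α β) (lin γ) = if α = γ ∧ β = γ then 1 else 0 := by
  obtain ⟨K, _, _, _, _, _⟩ := exists_quad F
  rw [← add_zero (ite _ _ _)]
  refine inner_of_vals (vals_ps K α β) (vals_lin K γ) (by simp) (by simp) (by simp) (by simp)
    rfl ?_ ?_ (by simp)
  · intro a
    simp only [map_mul]
    ring
  · have h1 := sum_sum_mulChar α β γ γ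
    have h3 := sum_sum_mulChar β α γ γ
    simp only [and_comm (a := β = γ)] at h3
    have : ∀ a b, (α a * β b + α b * β a) * conj (γ (a * b)) =
        α a * β b * conj (γ a * γ b) + β a * α b * conj (γ a * γ b) := by
      intro a b
      simp only [map_mul]
      ring
    simp only [this, Finset.sum_add_distrib, h1, h3]
    ring

open Classical in
theorem inner_cusp_cusp (θ θ' : MulChar K ℂ) :
    classInner (cusp F θ) (cusp F θ') =
      (if θ = θ' then 1 else 0) + (if θ = θ' ^ q then 1 else 0) := by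
  rw [← zero_add (_ + _)]
  refine inner_of_vals (vals_cusp θ) (vals_cusp θ') (by simp) (by simp) (by simp) (by simp)
    (by simp) ?_ (by simp) ?_
  · intro a
    simp only [map_mul, map_add, map_sub, map_natCast, map_one, map_neg, frob_algebraMap]
    ring
  · have h1 := sum_mulChar_conj θ θ'
    have h2 := sum_mulChar_conj θ (θ' ^ q)
    have h3 := sum_mulChar_conj (θ ^ q) θ'
    have h4 := sum_mulChar_conj (θ ^ q) (θ' ^ q)
    have e3 : θ ^ q = θ' ↔ θ = θ' ^ q :=
      ⟨fun h => by rw [← h, pow_q_pow_q], fun h => by rw [h, pow_q_pow_q]⟩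
    have e4 : θ ^ q = θ' ^ q ↔ θ = θ' :=
      ⟨fun h => by rw [← pow_q_pow_q (F := F) θ, h, pow_q_pow_q], fun h => by rw [h]⟩
    simp only [e3] at h3
    simp only [e4] at h4
    have : ∀ z, -(θ z + θ (z ^ q)) * conj (-(θ' z + θ' (z ^ q))) =
        θ z * conj (θ' z) + θ z * conj ((θ' ^ q) z) + (θ ^ q) z * conj (θ' z) +
        (θ ^ q) z * conj ((θ' ^ q) z) := by
      intro z
      simp only [pow_q_apply, map_add, map_neg]
      ring
    simp only [this, Finset.sum_add_distrib, h1, h2, h3, h4, card_K (F := F) (K := K)]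
    push_cast
    split_ifs <;> ring

/-! ### Degrees and values at the identity -/

omit [Fintype F] [DecidableEq F] in
theorem isSc_one : IsSc ((1 : GL2 F) : Mat F) := by simp [IsSc]

theorem ps_one (α β : MulChar F ℂ) : ps α β 1 = (q : ℂ) + 1 := by
  obtain ⟨K, _, _, _, _, _⟩ := exists_quad F
  rw [(vals_ps K α β).sc 1 isSc_one]
  simp

omit [Fintype F] [DecidableEq F] in
theorem lin_one (α : MulChar F ℂ) : lin α 1 = 1 := by simp [lin]

theorem st_one (α : MulChar F ℂ) : st α 1 = q := by
  rw [st, Pi.sub_apply, ps_one, lin_one]; ring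

theorem cusp_one (θ : MulChar K ℂ) : cusp F θ 1 = (q : ℂ) - 1 := by
  rw [(vals_cusp θ).sc 1 isSc_one]
  simp

/-! ### Irreducibility -/

theorem isIrr_ps {α β : MulChar F ℂ} (h : α ≠ β) : IsIrrCharacter _ (ps α β) := by
  refine isIrr_of_isChar_of_norm_one (isChar_ps α β) ?_
  rw [inner_ps_ps]
  simp [h]

theorem isIrr_st (α : MulChar F ℂ) : IsIrrCharacter _ (st α) := by
  refine isIrr_of_norm_one (isGen_st α) ?_ (by rw [st_one]; simp)
  rw [st, CharLib.inner_sub_left, CharLib.inner_sub_right, CharLib.inner_sub_right, inner_ps_ps, inner_ps_lin,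
    inner_irr_self (isIrr_lin α), inner_char_comm (isChar_of_irr (isIrr_lin α)) (isChar_ps α α),
    inner_ps_lin]
  simp

theorem isIrr_cusp {θ : MulChar K ℂ} (h : θ ^ q ≠ θ) : IsIrrCharacter _ (cusp F θ) := by
  refine isIrr_of_norm_one (isGen_cusp θ) ?_ ?_
  · rw [inner_cusp_cusp]
    simp [h.symm]
  · rw [cusp_one]
    have : (1 : ℝ) ≤ q := by exact_mod_cast Fintype.card_pos
    simpa using this

theorem ps_self (α : MulChar F ℂ) : ps α α = st α + lin α := by simp [st]

theorem cusp_normChar (α : MulChar F ℂ) : cusp F (normChar K α) = st α - lin α := by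
  refine Vals.ext (fun _ => True) (fun _ => trivial) (vals_cusp (normChar K α))
    (Vals.map₂ (· - ·) (vals_st K α) (vals_lin K α)) ?_ ?_ ?_ ?_
  · intro a _; rw [normChar_apply, norm_algebraMap']; ring
  · intro a _; rw [normChar_apply, norm_algebraMap']; ring
  · intro a b _ _; simp
  · intro z _ _; rw [normChar_apply, normChar_apply, norm_frob]; ring

theorem ps_comm (α β : MulChar F ℂ) : ps α β = ps β α := by
  obtain ⟨K, _, _, _, _, _⟩ := exists_quad F
  refine Vals.ext (fun _ => True) (fun _ => trivial) (vals_ps K α β) (vals_ps K β α) ?_ ?_ ?_ ?_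
  · intro a _; ring
  · intro a _; ring
  · intro a b _ _; ring
  · intro z _ _; rfl

theorem cusp_pow_q (θ : MulChar K ℂ) : cusp F (θ ^ q) = cusp F θ := by
  refine Vals.ext (fun _ => True) (fun _ => trivial) (vals_cusp (θ ^ q)) (vals_cusp θ) ?_ ?_ ?_ ?_
  · intro a _; rw [pow_q_apply, frob_algebraMap]
  · intro a _; rw [pow_q_apply, frob_algebraMap]
  · intro a b _ _; rfl
  · intro z _ _; rw [pow_q_apply, pow_q_apply, frob_frob, add_comm]

theorem ps_eq_iff (α β α' β' : MulChar F ℂ) :
    ps α β = ps α' β' ↔ (α = α' ∧ β = β') ∨ (α = β' ∧ β = α') := by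
  constructor
  · intro h
    by_contra hc
    rw [not_or] at hc
    have h1 := inner_ps_ps α β α' β'
    rw [if_neg hc.1, if_neg hc.2, add_zero, ← h] at h1
    have h2 := congrFun (CharLib.inner_self_eq_zero h1) 1
    rw [ps_one] at h2
    exact q_add_one_ne h2
  · rintro (⟨rfl, rfl⟩ | ⟨rfl, rfl⟩)
    · rfl
    · exact ps_comm _ _

theorem cusp_eq_iff (θ θ' : MulChar K ℂ) :
    cusp F θ = cusp F θ' ↔ θ = θ' ∨ θ = θ' ^ q := by
  constructor
  · intro h
    by_contra hc
    rw [not_or] at hc
    have h1 := inner_cusp_cusp (F := F) θ θ'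
    rw [if_neg hc.1, if_neg hc.2, add_zero, ← h] at h1
    have h2 := congrFun (CharLib.inner_self_eq_zero h1) 1
    rw [cusp_one] at h2
    exact q_sub_one_ne h2
  · rintro (rfl | rfl)
    · rfl
    · exact cusp_pow_q _

theorem lin_injective : Function.Injective (lin : MulChar F ℂ → GL2 F → ℂ) := by
  intro α β h
  have h1 := inner_ps_lin α α α
  have h2 := inner_ps_lin α α β
  rw [← h, h1] at h2
  by_contra hc
  simp [hc] at h2

theorem st_eq_mul (α : MulChar F ℂ) : st α = st 1 * lin α := by
  obtain ⟨K, _, _, _, _, _⟩ := exists_quad F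
  refine Vals.ext (· ≠ 0) GL2_det_ne_zero (vals_st K α)
    (Vals.map₂ (· * ·) (vals_st K 1) (vals_lin K α)) ?_ ?_ ?_ ?_
  · intro a ha; rw [MulChar.one_apply ha.isUnit]; ring
  · intro a _; ring
  · intro a b _ ha; rw [MulChar.one_apply ha.isUnit]; ring
  · intro z _ ha; rw [MulChar.one_apply ha.isUnit]; ring

theorem st_injective : Function.Injective (st : MulChar F ℂ → GL2 F → ℂ) := by
  intro α β h
  by_contra hc
  have h1 : classInner (st α) (st β) = 0 := by
    rw [st, st, CharLib.inner_sub_left, CharLib.inner_sub_right, CharLib.inner_sub_right, inner_ps_ps, inner_ps_lin,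
      inner_irr_ne (isIrr_lin α) (isIrr_lin β) (fun h => hc (lin_injective h)),
      inner_char_comm (isChar_of_irr (isIrr_lin α)) (isChar_ps β β), inner_ps_lin]
    simp [hc, Ne.symm hc]
  rw [← h, inner_irr_self (isIrr_st α)] at h1
  exact one_ne_zero h1

/-! ### Completeness -/

variable (K) in
theorem regChar_eq : (2 : ℂ) • regChar (GL2 F) =
    ((q : ℂ) + 1) • ∑ α : MulChar F ℂ, ∑ β : MulChar F ℂ, ps α β +
      ((q : ℂ) - 1) • ∑ θ : MulChar K ℂ, cusp F θ := by
  have h1 : Vals (fun g : GL2 F => (g : Mat F)) ((2 : ℂ) • regChar (GL2 F))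
      (fun a => if a = 1 then 2 * (Nat.card (GL2 F) : ℂ) else 0) (fun _ => 0) (fun _ _ => 0)
      (fun _ : K => 0) := by
    have h0 : ∀ g : GL2 F, ¬ IsSc (g : Mat F) → ((2 : ℂ) • regChar (GL2 F)) g = 0 := by
      intro g hg
      rw [Pi.smul_apply, regChar_of_ne, smul_zero]
      rintro rfl
      exact hg isSc_one
    constructor
    · intro g hg
      split_ifs with h
      · have : g = 1 := by
          apply Units.ext
          rw [Matrix.eta_fin_two (g : Mat F), hg.1, hg.2.1, ← hg.2.2, h, Units.val_one,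
            Matrix.one_fin_two]
        rw [this, Pi.smul_apply, regChar_one, smul_eq_mul]
      · rw [Pi.smul_apply, regChar_of_ne, smul_zero]
        rintro rfl
        exact h (by simp)
    · intro g a hg _ _; exact h0 g hg
    · intro g a b h1 h2 h3; exact h0 g (not_isSc_of_split h1 h2 h3)
    · intro g z h1 h2 h3; exact h0 g (not_isSc_of_ell h1 h2 h3)
  have h2 := Vals.map₂ (fun x y => ((q : ℂ) + 1) * x + ((q : ℂ) - 1) * y)
    (Vals.sum Finset.univ fun α : MulChar F ℂ => Vals.sum Finset.univ fun β : MulChar F ℂ =>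
      vals_ps K α β) (Vals.sum Finset.univ fun θ : MulChar K ℂ => vals_cusp (F := F) θ)
  refine (Vals.ext (fun _ => True) (fun _ => trivial) h1 h2 ?_ ?_ ?_ ?_).trans ?_
  · intro a _
    simp only [← Finset.mul_sum, ← Finset.sum_mul, sum_over_mulChar, map_eq_one_iff _
      (algebraMap F K).injective, card_K (F := F) (K := K), card_GL2]
    split_ifs
    · push_cast; ring
    · ring
  · intro a _
    simp only [← Finset.mul_sum, ← Finset.sum_mul, sum_over_mulChar, map_eq_one_iff _
      (algebraMap F K).injective, card_K (F := F) (K := K), Finset.sum_neg_distrib]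
    split_ifs
    · push_cast; ring
    · ring
  · intro a b hab _
    simp only [Finset.sum_add_distrib, ← Finset.mul_sum, ← Finset.sum_mul, sum_over_mulChar]
    by_cases ha : a = 1
    · have hb : b ≠ 1 := fun hb => hab (ha.trans hb.symm)
      simp [hb]
    · simp [ha]
  · intro z hz _
    have h3 : z ≠ 1 := by rintro rfl; simp at hz
    have h4 : z ^ q ≠ 1 := fun h => frob_ne_of_ne hz (by rw [h, one_pow])
    simp only [Finset.sum_add_distrib, Finset.sum_neg_distrib, sum_over_mulChar]
    simp [h3, h4]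
  · funext g
    simp

variable (K) in
/-- The irreducible characters of `GL₂`. -/
theorem isIrr_GL2_iff (χ : GL2 F → ℂ) : IsIrrCharacter _ χ ↔
    (∃ α, χ = lin α) ∨ (∃ α, χ = st α) ∨ (∃ α β, α ≠ β ∧ χ = ps α β) ∨
      (∃ θ : MulChar K ℂ, θ ^ q ≠ θ ∧ χ = cusp F θ) := by
  constructor
  · intro hχ
    by_contra hc
    push Not at hc
    obtain ⟨h1, h2, h3, h4⟩ := hc
    have h5 := congrArg (classInner χ) (regChar_eq (F := F) K)
    rw [CharLib.inner_smul_right, inner_regChar_right, CharLib.inner_add_right, CharLib.inner_smul_right, CharLib.inner_smul_right,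
      CharLib.inner_sum_right, CharLib.inner_sum_right, Finset.sum_eq_zero, Finset.sum_eq_zero] at h5
    · simp [isIrr_one_ne_zero hχ] at h5
    · intro θ _
      by_cases hθ : θ ^ q = θ
      · obtain ⟨α, rfl⟩ := (card_pow_q_eq (F := F) (K := K)).2 θ hθ
        rw [cusp_normChar, CharLib.inner_sub_right, inner_irr_ne hχ (isIrr_st α) (h2 α),
          inner_irr_ne hχ (isIrr_lin α) (h1 α), sub_zero]
      · exact inner_irr_ne hχ (isIrr_cusp hθ) (h4 θ hθ)
    · intro α _
      rw [CharLib.inner_sum_right]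
      refine Finset.sum_eq_zero fun β _ => ?_
      by_cases hαβ : α = β
      · subst hαβ
        rw [ps_self, CharLib.inner_add_right, inner_irr_ne hχ (isIrr_st α) (h2 α),
          inner_irr_ne hχ (isIrr_lin α) (h1 α), add_zero]
      · exact inner_irr_ne hχ (isIrr_ps hαβ) (h3 α β hαβ)
  · rintro (⟨α, rfl⟩ | ⟨α, rfl⟩ | ⟨α, β, h, rfl⟩ | ⟨θ, h, rfl⟩)
    · exact isIrr_lin α
    · exact isIrr_st α
    · exact isIrr_ps h
    · exact isIrr_cusp h

end Cfsg.Agent.GL2Char
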