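import Cfsg.Agent.GL2Char.Quad
import Cfsg.Agent.CharLib.ClassFun

/-!
# Class functions on `GL₂` and `SL₂` described by their values on the four types of elements
-/

set_option autoImplicit false

namespace Cfsg.Agent.GL2Char

open Cfsg Cfsg.Agent.CharLib
open scoped ComplexConjugate

variable {F K : Type*} [Field F] [Fintype F] [Field K] [Fintype K] [Algebra F K]
  [hK : Fact (Module.finrank F K = 2)]

local notation "q" => Fintype.card F

/-- `2 × 2` matrices. -/
abbrev Mat (F : Type*) := Matrix (Fin 2) (Fin 2) F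

/-- The general linear group of degree two. -/
abbrev GL2 (F : Type*) [Field F] := Matrix.GeneralLinearGroup (Fin 2) F

/-- The special linear group of degree two. -/
abbrev SL2 (F : Type*) [Field F] := Matrix.SpecialLinearGroup (Fin 2) F

/-- Scalar matrices. -/
def IsSc (M : Mat F) : Prop := M 0 1 = 0 ∧ M 1 0 = 0 ∧ M 0 0 = M 1 1

/-- The values of a function on the four types of matrices. -/
structure Vals {G : Type*} (m : G → Mat F) (f : G → ℂ) (fZ fU : F → ℂ) (fT : F → F → ℂ)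
    (fK : K → ℂ) : Prop where
  sc : ∀ g, IsSc (m g) → f g = fZ (m g 0 0)
  un : ∀ g a, ¬ IsSc (m g) → (m g).trace = a + a → (m g).det = a * a → f g = fU a
  dg : ∀ g a b, a ≠ b → (m g).trace = a + b → (m g).det = a * b → f g = fT a b
  el : ∀ g (z : K), z ^ q ≠ z → (m g).trace = Algebra.trace F K z →
    (m g).det = Algebra.norm F z → f g = fK z

omit [Fintype F] in
theorem IsSc.trace {M : Mat F} (h : IsSc M) : M.trace = M 0 0 + M 0 0 := by
  rw [Matrix.trace_fin_two, ← h.2.2]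

omit [Fintype F] in
theorem IsSc.det {M : Mat F} (h : IsSc M) : M.det = M 0 0 * M 0 0 := by
  rw [Matrix.det_fin_two, ← h.2.2, h.1]; ring

omit [Fintype F] in
theorem not_isSc_of_split {M : Mat F} {a b : F} (hab : a ≠ b) (ht : M.trace = a + b)
    (hd : M.det = a * b) : ¬ IsSc M := by
  intro h
  rw [h.trace] at ht
  rw [h.det] at hd
  have : (a - b) * (a - b) = 0 := by
    linear_combination (-(a + b) - 2 * M 0 0) * ht + 4 * hd
  exact hab (sub_eq_zero.mp (mul_self_eq_zero.mp this))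

theorem not_isSc_of_ell {M : Mat F} {z : K} (hz : z ^ q ≠ z) (ht : M.trace = Algebra.trace F K z)
    (hd : M.det = Algebra.norm F z) : ¬ IsSc M := by
  intro h
  rw [h.trace] at ht
  rw [h.det] at hd
  exact not_split hz ht.symm hd.symm

variable (K) in
theorem classify (M : Mat F) :
    IsSc M ∨ (¬ IsSc M ∧ ∃ a, M.trace = a + a ∧ M.det = a * a) ∨
      (∃ a b, a ≠ b ∧ M.trace = a + b ∧ M.det = a * b) ∨
      (∃ z : K, z ^ q ≠ z ∧ M.trace = Algebra.trace F K z ∧ M.det = Algebra.norm F z) := by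
  by_cases h : IsSc M
  · exact Or.inl h
  rcases trichotomy K M.trace M.det with h1 | h1 | h1
  · exact Or.inr (Or.inl ⟨h, h1⟩)
  · exact Or.inr (Or.inr (Or.inl h1))
  · exact Or.inr (Or.inr (Or.inr h1))

section closure

variable {G : Type*} {m : G → Mat F} {f f' : G → ℂ} {fZ fU fZ' fU' : F → ℂ} {fT fT' : F → F → ℂ}
  {fK fK' : K → ℂ}

omit [Fintype K] hK in
theorem Vals.map₂ (op : ℂ → ℂ → ℂ) (h : Vals m f fZ fU fT fK) (h' : Vals m f' fZ' fU' fT' fK') :
    Vals m (fun g => op (f g) (f' g)) (fun a => op (fZ a) (fZ' a)) (fun a => op (fU a) (fU' a))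
      (fun a b => op (fT a b) (fT' a b)) (fun z => op (fK z) (fK' z)) where
  sc g h1 := by rw [h.sc g h1, h'.sc g h1]
  un g a h1 h2 h3 := by rw [h.un g a h1 h2 h3, h'.un g a h1 h2 h3]
  dg g a b h1 h2 h3 := by rw [h.dg g a b h1 h2 h3, h'.dg g a b h1 h2 h3]
  el g z h1 h2 h3 := by rw [h.el g z h1 h2 h3, h'.el g z h1 h2 h3]

omit [Fintype K] hK in
theorem Vals.map (op : ℂ → ℂ) (h : Vals m f fZ fU fT fK) :
    Vals m (fun g => op (f g)) (fun a => op (fZ a)) (fun a => op (fU a))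
      (fun a b => op (fT a b)) (fun z => op (fK z)) :=
  Vals.map₂ (fun x _ => op x) h h

omit [Fintype K] hK in
theorem Vals.pullback {G' : Type*} (φ : G' → G) (h : Vals m f fZ fU fT fK) :
    Vals (fun g => m (φ g)) (fun g => f (φ g)) fZ fU fT fK where
  sc _ h1 := h.sc _ h1
  un _ a h1 h2 h3 := h.un _ a h1 h2 h3
  dg _ a b h1 h2 h3 := h.dg _ a b h1 h2 h3
  el _ z h1 h2 h3 := h.el _ z h1 h2 h3

omit [Fintype K] hK in
theorem Vals.sum {ι : Type*} (s : Finset ι) {f : ι → G → ℂ} {fZ fU : ι → F → ℂ}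
    {fT : ι → F → F → ℂ} {fK : ι → K → ℂ} (h : ∀ i, Vals m (f i) (fZ i) (fU i) (fT i) (fK i)) :
    Vals m (fun g => ∑ i ∈ s, f i g) (fun a => ∑ i ∈ s, fZ i a) (fun a => ∑ i ∈ s, fU i a)
      (fun a b => ∑ i ∈ s, fT i a b) (fun z => ∑ i ∈ s, fK i z) where
  sc g h1 := Finset.sum_congr rfl fun i _ => (h i).sc g h1
  un g a h1 h2 h3 := Finset.sum_congr rfl fun i _ => (h i).un g a h1 h2 h3
  dg g a b h1 h2 h3 := Finset.sum_congr rfl fun i _ => (h i).dg g a b h1 h2 h3
  el g z h1 h2 h3 := Finset.sum_congr rfl fun i _ => (h i).el g z h1 h2 h3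

omit [Fintype K] hK in
/-- Changing the value functions. -/
theorem Vals.congr (D : F → Prop) (hD : ∀ g, D (m g).det) (h : Vals m f fZ fU fT fK)
    (hZ : ∀ a, D (a * a) → fZ a = fZ' a) (hU : ∀ a, D (a * a) → fU a = fU' a)
    (hT : ∀ a b, a ≠ b → D (a * b) → fT a b = fT' a b)
    (hE : ∀ z : K, z ^ q ≠ z → D (Algebra.norm F z) → fK z = fK' z) :
    Vals m f fZ' fU' fT' fK' where
  sc g h1 := by rw [h.sc g h1, hZ _ (h1.det ▸ hD g)]
  un g a h1 h2 h3 := by rw [h.un g a h1 h2 h3, hU _ (h3 ▸ hD g)]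
  dg g a b h1 h2 h3 := by rw [h.dg g a b h1 h2 h3, hT _ _ h1 (h3 ▸ hD g)]
  el g z h1 h2 h3 := by rw [h.el g z h1 h2 h3, hE _ h1 (h3 ▸ hD g)]

theorem Vals.unique (h : Vals m f fZ fU fT fK) (h' : Vals m f' fZ fU fT fK) : f = f' := by
  funext g
  rcases classify K (m g) with h1 | ⟨h1, a, h2, h3⟩ | ⟨a, b, h1, h2, h3⟩ | ⟨z, h1, h2, h3⟩
  · rw [h.sc g h1, h'.sc g h1]
  · rw [h.un g a h1 h2 h3, h'.un g a h1 h2 h3]
  · rw [h.dg g a b h1 h2 h3, h'.dg g a b h1 h2 h3]
  · rw [h.el g z h1 h2 h3, h'.el g z h1 h2 h3]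

theorem Vals.ext (D : F → Prop) (hD : ∀ g, D (m g).det) (h : Vals m f fZ fU fT fK)
    (h' : Vals m f' fZ' fU' fT' fK')
    (hZ : ∀ a, D (a * a) → fZ a = fZ' a) (hU : ∀ a, D (a * a) → fU a = fU' a)
    (hT : ∀ a b, a ≠ b → D (a * b) → fT a b = fT' a b)
    (hE : ∀ z : K, z ^ q ≠ z → D (Algebra.norm F z) → fK z = fK' z) : f = f' :=
  (h.congr D hD hZ hU hT hE).unique h'

end closure

/-- Companion matrix. -/
def comp (t d : F) : Mat F := !![0, -d; 1, t]

omit [Fintype F] in
theorem comp_trace (t d : F) : (comp t d).trace = t := by simp [comp, Matrix.trace_fin_two]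

omit [Fintype F] in
theorem comp_det (t d : F) : (comp t d).det = d := by simp [comp, Matrix.det_fin_two]

omit [Fintype F] in
theorem comp_not_isSc (t d : F) : ¬ IsSc (comp t d) := by simp [comp, IsSc]

theorem Vals.sum_matrix [Fintype (Mat F)] {Φ : Mat F → ℂ} {fZ fU : F → ℂ} {fT : F → F → ℂ}
    {fK : K → ℂ} (h : Vals id Φ fZ fU fT fK) :
    2 * ∑ M, Φ M = ∑ a, (2 * fZ a + 2 * ((q : ℂ) ^ 2 - 1) * fU a - ((q : ℂ) ^ 2 + q) * fT a a
        - ((q : ℂ) ^ 2 - q) * fK (algebraMap F K a))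
      + ((q : ℂ) ^ 2 + q) * ∑ a, ∑ b, fT a b + ((q : ℂ) ^ 2 - q) * ∑ z, fK z := by
  classical
  let Γ : F → F → ℂ := fun t d => Φ (comp t d)
  have hU : ∀ a, Γ (a + a) (a * a) = fU a := fun a =>
    h.un _ a (comp_not_isSc _ _) (comp_trace _ _) (comp_det _ _)
  have hT : ∀ a b, a ≠ b → Γ (a + b) (a * b) = fT a b := fun a b hab =>
    h.dg _ a b hab (comp_trace _ _) (comp_det _ _)
  have hE : ∀ z : K, z ^ q ≠ z → Γ (Algebra.trace F K z) (Algebra.norm F z) = fK z := fun z hz =>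
    h.el _ z hz (comp_trace _ _) (comp_det _ _)
  have h1 : ∀ M, Φ M = Γ M.trace M.det + if IsSc M then fZ (M 0 0) - fU (M 0 0) else 0 := by
    intro M
    rcases classify K M with h1 | ⟨h1, a, h2, h3⟩ | ⟨a, b, h1, h2, h3⟩ | ⟨z, h1, h2, h3⟩
    · rw [if_pos h1, h1.trace, h1.det, hU, h.sc M h1]; simp
    · rw [if_neg h1, h2, h3, hU, h.un M a h1 h2 h3, add_zero]
    · rw [if_neg (not_isSc_of_split h1 h2 h3), h2, h3, hT a b h1, h.dg M a b h1 h2 h3, add_zero]
    · rw [if_neg (not_isSc_of_ell h1 h2 h3), h2, h3, hE z h1, h.el M z h1 h2 h3, add_zero]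
  have h2 : ∑ M : Mat F, (if IsSc M then fZ (M 0 0) - fU (M 0 0) else 0) = ∑ a, (fZ a - fU a) := by
    symm
    rw [← Finset.sum_filter]
    refine Finset.sum_bij (fun a _ => !![a, 0; 0, a]) ?_ ?_ ?_ ?_
    · intro a _; exact Finset.mem_filter.mpr ⟨Finset.mem_univ _, rfl, rfl, rfl⟩
    · intro a _ b _ hab
      simpa using congrFun (congrFun hab 0) 0
    · intro M hM
      obtain ⟨h1, h2, h3⟩ := (Finset.mem_filter.mp hM).2
      refine ⟨M 0 0, Finset.mem_univ _, ?_⟩
      conv_rhs => rw [Matrix.eta_fin_two M, h1, h2, ← h3]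
    · intro a _; simp
  have h3 : ∑ a, ∑ b, Γ (a + b) (a * b) = ∑ a, ∑ b, fT a b + ∑ a, (fU a - fT a a) := by
    rw [← Finset.sum_add_distrib]
    refine Finset.sum_congr rfl fun a _ => ?_
    rw [← Finset.add_sum_erase _ _ (Finset.mem_univ a), ← Finset.add_sum_erase _ _ (Finset.mem_univ a),
      hU, Finset.sum_congr rfl fun b hb => hT a b (Finset.ne_of_mem_erase hb).symm]
    ring
  have h4 : ∑ z : K, Γ (Algebra.trace F K z) (Algebra.norm F z) =
      ∑ z, fK z + ∑ a, (fU a - fK (algebraMap F K a)) := by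
    have h5 : ∑ a, (fU a - fK (algebraMap F K a)) =
        ∑ z : K, if z ^ q = z then Γ (Algebra.trace F K z) (Algebra.norm F z) - fK z else 0 := by
      rw [← Finset.sum_filter]
      refine Finset.sum_bij (fun a _ => algebraMap F K a) ?_ ?_ ?_ ?_
      · intro a _; simp [frob_algebraMap]
      · intro a _ b _ hab
        exact (algebraMap F K).injective hab
      · intro z hz
        obtain ⟨a, ha⟩ := exists_of_frob_eq (Finset.mem_filter.mp hz).2
        exact ⟨a, Finset.mem_univ _, ha⟩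
      · intro a _
        rw [trace_algebraMap', norm_algebraMap', hU]
    rw [h5, ← Finset.sum_add_distrib]
    refine Finset.sum_congr rfl fun z _ => ?_
    split_ifs with hz
    · ring
    · rw [hE z hz, add_zero]
  have h6 := sum_pairs K Γ
  rw [Finset.sum_congr rfl fun M _ => h1 M, Finset.sum_add_distrib, h2, GL2Char.sum_matrix Γ]
  rw [h3, h4] at h6
  rw [h3]
  simp only [Finset.sum_add_distrib, Finset.sum_sub_distrib, ← Finset.mul_sum] at h6 ⊢
  linear_combination ((q : ℂ) * (q - 1)) * h6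

open Classical in
/-- Summation formula over a set of matrices cut out by a condition on the determinant. -/
theorem Vals.sum_eq {G : Type*} [Fintype G] {m : G → Mat F} (hm : Function.Injective m)
    (D : F → Prop) (hD : ∀ M : Mat F, D M.det ↔ ∃ g, m g = M)
    {f : G → ℂ} {fZ fU : F → ℂ} {fT : F → F → ℂ} {fK : K → ℂ} (h : Vals m f fZ fU fT fK) :
    2 * ∑ g, f g = ∑ a, (if D (a * a) then 2 * fZ a + 2 * ((q : ℂ) ^ 2 - 1) * fU a
        - ((q : ℂ) ^ 2 + q) * fT a a - ((q : ℂ) ^ 2 - q) * fK (algebraMap F K a) else 0)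
      + ((q : ℂ) ^ 2 + q) * ∑ a, ∑ b, (if D (a * b) then fT a b else 0)
      + ((q : ℂ) ^ 2 - q) * ∑ z, (if D (Algebra.norm F z) then fK z else 0) := by
  let Φ : Mat F → ℂ := Function.extend m f 0
  have hΦ : ∀ g, Φ (m g) = f g := fun g => hm.extend_apply f 0 g
  have hΦ0 : ∀ M : Mat F, ¬ D M.det → Φ M = 0 := fun M hM => by
    simp only [Φ]
    rw [Function.extend_apply' _ _ _ (by rwa [← hD])]
    rfl
  have hV : Vals id Φ (fun a => if D (a * a) then fZ a else 0)
      (fun a => if D (a * a) then fU a else 0) (fun a b => if D (a * b) then fT a b else 0)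
      (fun z => if D (Algebra.norm F z) then fK z else 0) := by
    constructor
    · intro M h1
      simp only [id] at h1 ⊢
      rw [← h1.det]
      split_ifs with h2
      · obtain ⟨g, rfl⟩ := (hD M).mp h2
        rw [hΦ, h.sc g h1]
      · exact hΦ0 M h2
    · intro M a h1 h2 h3
      simp only [id] at h1 h2 h3 ⊢
      rw [← h3]
      split_ifs with h4
      · obtain ⟨g, rfl⟩ := (hD M).mp h4
        rw [hΦ, h.un g a h1 h2 h3]
      · exact hΦ0 M h4
    · intro M a b h1 h2 h3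
      simp only [id] at h2 h3 ⊢
      rw [← h3]
      split_ifs with h4
      · obtain ⟨g, rfl⟩ := (hD M).mp h4
        rw [hΦ, h.dg g a b h1 h2 h3]
      · exact hΦ0 M h4
    · intro M z h1 h2 h3
      simp only [id] at h2 h3 ⊢
      rw [← h3]
      split_ifs with h4
      · obtain ⟨g, rfl⟩ := (hD M).mp h4
        rw [hΦ, h.el g z h1 h2 h3]
      · exact hΦ0 M h4
  have h1 : ∑ g, f g = ∑ M, Φ M := by
    refine Finset.sum_bij_ne_zero (fun g _ _ => m g) (by simp) (fun _ _ _ _ _ _ h => hm h) ?_ ?_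
    · intro M _ hM
      have : D M.det := by
        by_contra hc
        exact hM (hΦ0 M hc)
      obtain ⟨g, rfl⟩ := (hD M).mp this
      exact ⟨g, Finset.mem_univ _, by rwa [hΦ] at hM, rfl⟩
    · intro g _ _
      exact (hΦ g).symm
  rw [h1, hV.sum_matrix]
  congr 2
  refine Finset.sum_congr rfl fun a _ => ?_
  rw [norm_algebraMap']
  split_ifs <;> simp

omit [Fintype F] in
theorem GL2_det_ne_zero (g : GL2 F) : (g : Mat F).det ≠ 0 := g.det_ne_zero

omit [Fintype F] in
theorem GL2_range (M : Mat F) : M.det ≠ 0 ↔ ∃ g : GL2 F, (g : Mat F) = M :=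
  ⟨fun h => ⟨Matrix.GeneralLinearGroup.mkOfDetNeZero M h, rfl⟩,
    by rintro ⟨g, rfl⟩; exact g.det_ne_zero⟩

omit [Fintype F] in
theorem SL2_range (M : Mat F) : M.det = 1 ↔ ∃ g : SL2 F, (g : Mat F) = M :=
  ⟨fun h => ⟨⟨M, h⟩, rfl⟩, by rintro ⟨g, rfl⟩; exact g.det_coe⟩

/-- Summation formula for `GL₂`, for value functions vanishing at singular parameters. -/
theorem Vals.sum_GL [Fintype (GL2 F)] {f : GL2 F → ℂ} {fZ fU : F → ℂ} {fT : F → F → ℂ}
    {fK : K → ℂ} (h : Vals (fun g : GL2 F => (g : Mat F)) f fZ fU fT fK)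
    (hZ : fZ 0 = 0) (hU : fU 0 = 0) (hT1 : ∀ a, fT a 0 = 0) (hT2 : ∀ a, fT 0 a = 0)
    (hE : fK 0 = 0) :
    2 * ∑ g, f g = ∑ a, (2 * fZ a + 2 * ((q : ℂ) ^ 2 - 1) * fU a
        - ((q : ℂ) ^ 2 + q) * fT a a - ((q : ℂ) ^ 2 - q) * fK (algebraMap F K a))
      + ((q : ℂ) ^ 2 + q) * ∑ a, ∑ b, fT a b + ((q : ℂ) ^ 2 - q) * ∑ z, fK z := by
  rw [h.sum_eq Units.val_injective (· ≠ 0) GL2_range]
  congr 2
  · refine Finset.sum_congr rfl fun a _ => ?_
    split_ifs with h1
    · rfl
    · have : a = 0 := by simpa using h1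
      subst this
      simp [hZ, hU, hT1, hE]
  · congr 1
    refine Finset.sum_congr rfl fun a _ => Finset.sum_congr rfl fun b _ => ?_
    split_ifs with h1
    · rfl
    · have : a = 0 ∨ b = 0 := by simpa [imp_iff_not_or] using h1
      rcases this with rfl | rfl
      · rw [hT2]
      · rw [hT1]
  · refine Finset.sum_congr rfl fun z _ => ?_
    split_ifs with h1
    · rfl
    · have : z = 0 := by simpa [norm_eq_zero_iff'] using h1
      rw [this, hE]

open Classical in
/-- Summation formula for `SL₂`. -/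
theorem Vals.sum_SL [Fintype (SL2 F)] {f : SL2 F → ℂ} {fZ fU : F → ℂ} {fT : F → F → ℂ}
    {fK : K → ℂ} (h : Vals (fun g : SL2 F => (g : Mat F)) f fZ fU fT fK) :
    2 * ∑ g, f g = ∑ a, (if a * a = 1 then 2 * fZ a + 2 * ((q : ℂ) ^ 2 - 1) * fU a
        - ((q : ℂ) ^ 2 + q) * fT a a - ((q : ℂ) ^ 2 - q) * fK (algebraMap F K a) else 0)
      + ((q : ℂ) ^ 2 + q) * ∑ a : Fˣ, fT a (a : F)⁻¹
      + ((q : ℂ) ^ 2 - q) * ∑ z, (if Algebra.norm F z = 1 then fK z else 0) := by
  refine (Vals.sum_eq (G := SL2 F) (fun a b hab => Subtype.ext hab) (· = 1) SL2_range h).trans ?_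
  congr 3
  rw [← Fintype.sum_prod_type', ← Finset.sum_filter]
  symm
  refine Finset.sum_bij (fun a _ => ((a : F), (a : F)⁻¹)) ?_ ?_ ?_ ?_
  · intro a _; simp
  · intro a _ b _ hab
    exact Units.ext (congrArg Prod.fst hab)
  · rintro ⟨a, b⟩ hab
    have h1 : a * b = 1 := (Finset.mem_filter.mp hab).2
    refine ⟨Units.mkOfMulEqOne a b h1, Finset.mem_univ _, ?_⟩
    simp [eq_inv_of_mul_eq_one_right h1]
  · intro a _; rfl

/-! ### Conjugacy -/

omit [Fintype F] in
theorem exists_conj_comp {M : Mat F} (h : ¬ IsSc M) :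
    ∃ P : GL2 F, M * (P : Mat F) = (P : Mat F) * comp M.trace M.det := by
  by_cases h1 : M 1 0 = 0
  · by_cases h2 : M 0 1 = 0
    · have h3 : M 0 0 ≠ M 1 1 := fun h3 => h ⟨h2, h1, h3⟩
      refine ⟨Matrix.GeneralLinearGroup.mkOfDetNeZero !![1, M 0 0; 1, M 1 1]
        (by simp [Matrix.det_fin_two, sub_eq_zero, h3.symm]), ?_⟩
      ext i j
      fin_cases i <;> fin_cases j <;>
        simp [comp, Matrix.mul_apply, Matrix.trace_fin_two, Matrix.det_fin_two, h1, h2] <;> ring
    · refine ⟨Matrix.GeneralLinearGroup.mkOfDetNeZero !![0, M 0 1; 1, M 1 1]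
        (by simp [Matrix.det_fin_two, h2]), ?_⟩
      ext i j
      fin_cases i <;> fin_cases j <;>
        simp [comp, Matrix.mul_apply, Matrix.trace_fin_two, Matrix.det_fin_two] <;> ring
  · refine ⟨Matrix.GeneralLinearGroup.mkOfDetNeZero !![1, M 0 0; 0, M 1 0]
      (by simp [Matrix.det_fin_two, h1]), ?_⟩
    ext i j
    fin_cases i <;> fin_cases j <;>
      simp [comp, Matrix.mul_apply, Matrix.trace_fin_two, Matrix.det_fin_two] <;> ring

omit [Fintype F] in
theorem isConj_of_trace_det {g h : GL2 F} (hg : ¬ IsSc (g : Mat F)) (hh : ¬ IsSc (h : Mat F))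
    (ht : (g : Mat F).trace = (h : Mat F).trace) (hd : (g : Mat F).det = (h : Mat F).det) :
    IsConj g h := by
  obtain ⟨P, hP⟩ := exists_conj_comp hg
  obtain ⟨Q, hQ⟩ := exists_conj_comp hh
  rw [ht, hd] at hP
  refine isConj_iff.mpr ⟨Q * P⁻¹, ?_⟩
  have h1 : (P⁻¹ * g * P : GL2 F) = Q⁻¹ * h * Q := by
    apply Units.ext
    simp only [Units.val_mul, mul_assoc, hP, hQ]
    simp [← mul_assoc]
  calc Q * P⁻¹ * g * (Q * P⁻¹)⁻¹ = Q * (P⁻¹ * g * P) * Q⁻¹ := by group
    _ = h := by rw [h1]; group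

omit [Fintype F] in
theorem trace_eq_of_isConj {g h : GL2 F} (hc : IsConj g h) :
    (g : Mat F).trace = (h : Mat F).trace := by
  obtain ⟨c, rfl⟩ := isConj_iff.mp hc
  rw [Units.val_mul, Units.val_mul, Matrix.trace_mul_cycle]
  simp

omit [Fintype F] in
theorem det_eq_of_isConj {g h : GL2 F} (hc : IsConj g h) :
    (g : Mat F).det = (h : Mat F).det := by
  obtain ⟨c, rfl⟩ := isConj_iff.mp hc
  rw [Units.val_mul, Units.val_mul, Matrix.det_mul, Matrix.det_mul, mul_right_comm, ← Matrix.det_mul]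
  simp

omit [Fintype F] in
theorem IsSc.comm {M : Mat F} (h : IsSc M) (N : Mat F) : M * N = N * M := by
  ext i j
  fin_cases i <;> fin_cases j <;> simp [Matrix.mul_apply, h.1, h.2.1, h.2.2] <;> ring

omit [Fintype F] in
theorem eq_of_isConj_of_isSc {g h : GL2 F} (hg : IsSc (g : Mat F)) (hc : IsConj g h) : g = h := by
  obtain ⟨c, rfl⟩ := isConj_iff.mp hc
  have : c * g = g * c := Units.ext (hg.comm _).symm
  rw [this, mul_inv_cancel_right]

/-! ### The non-split torus -/

variable (F K) in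
/-- The regular representation of the quadratic extension. -/
noncomputable def iota : K →ₐ[F] Mat F :=
  Algebra.leftMulMatrix (Module.finBasisOfFinrankEq F K hK.out)

omit [Fintype F] in
theorem iota_det (z : K) : (iota F K z).det = Algebra.norm F z :=
  (Algebra.norm_eq_matrix_det _ z).symm

omit [Fintype F] in
theorem iota_trace (z : K) : (iota F K z).trace = Algebra.trace F K z :=
  (Algebra.trace_eq_matrix_trace _ z).symm

omit [Fintype F] in
theorem iota_algebraMap (a : F) : iota F K (algebraMap F K a) = !![a, 0; 0, a] := by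
  rw [AlgHom.commutes]
  ext i j
  fin_cases i <;> fin_cases j <;> simp [Matrix.algebraMap_matrix_apply]

omit [Fintype F] in
theorem iota_injective : Function.Injective (iota F K) := (iota F K).toRingHom.injective

theorem isSc_iota_iff (z : K) : IsSc (iota F K z) ↔ z ^ q = z := by
  constructor
  · intro h
    by_contra hz
    exact not_isSc_of_ell hz (iota_trace z) (iota_det z) h
  · intro h
    obtain ⟨a, rfl⟩ := exists_of_frob_eq h
    rw [iota_algebraMap]
    simp [IsSc]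

variable (F K) in
/-- The non-split torus as a homomorphism into `GL₂`. -/
noncomputable def iotaGL : Kˣ →* GL2 F := Units.map (iota F K).toRingHom.toMonoidHom

omit [Fintype F] in
theorem iotaGL_coe (z : Kˣ) : (iotaGL F K z : Mat F) = iota F K z := rfl

omit [Fintype F] in
theorem iotaGL_injective : Function.Injective (iotaGL F K) := fun _ _ h =>
  Units.ext (iota_injective (F := F) (congrArg Units.val h))

/-- A class function on `GL₂` is described by its values on representatives. -/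
theorem Vals.of_classFun {f : GL2 F → ℂ} (hf : IsClassFunction (GL2 F) f) {fZ fU : F → ℂ}
    {fT : F → F → ℂ} {fK : K → ℂ}
    (hZ : ∀ g : GL2 F, IsSc (g : Mat F) → f g = fZ ((g : Mat F) 0 0))
    (hU : ∀ (g : GL2 F) a, (g : Mat F) = !![a, 1; 0, a] → f g = fU a)
    (hT : ∀ (g : GL2 F) a b, a ≠ b → (g : Mat F) = !![a, 0; 0, b] → f g = fT a b)
    (hE : ∀ z : Kˣ, (z : K) ^ q ≠ z → f (iotaGL F K z) = fK z) :
    Vals (fun g : GL2 F => (g : Mat F)) f fZ fU fT fK where
  sc := hZ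
  un g a h1 h2 h3 := by
    have hd : (!![a, 1; 0, a] : Mat F).det ≠ 0 := by
      have := g.det_ne_zero
      rw [h3] at this
      simpa [Matrix.det_fin_two] using this
    rw [← hU (Matrix.GeneralLinearGroup.mkOfDetNeZero _ hd) a rfl]
    refine classFun_of_isConj hf (isConj_of_trace_det h1 (by simp [IsSc]) ?_ ?_)
    · rw [h2]; simp [Matrix.trace_fin_two]
    · rw [h3]; simp [Matrix.det_fin_two]
  dg g a b h1 h2 h3 := by
    have hd : (!![a, 0; 0, b] : Mat F).det ≠ 0 := by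
      have := g.det_ne_zero
      rw [h3] at this
      simpa [Matrix.det_fin_two] using this
    rw [← hT (Matrix.GeneralLinearGroup.mkOfDetNeZero _ hd) a b h1 rfl]
    refine classFun_of_isConj hf (isConj_of_trace_det (not_isSc_of_split h1 h2 h3)
      (by simp [IsSc, h1]) ?_ ?_)
    · rw [h2]; simp [Matrix.trace_fin_two]
    · rw [h3]; simp [Matrix.det_fin_two]
  el g z h1 h2 h3 := by
    rw [← Units.val_mk0 (ne_zero_of_frob_ne h1), ← hE _ h1]
    refine classFun_of_isConj hf (isConj_of_trace_det (not_isSc_of_ell h1 h2 h3)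
      (not_isSc_of_ell h1 (iota_trace z) (iota_det z)) ?_ ?_)
    · rw [h2]; exact (iota_trace z).symm
    · rw [h3]; exact (iota_det z).symm

/-! ### Elements without eigenvectors -/

omit [Fintype F] in
theorem exists_eigen {M : Mat F} {a b : F} (ht : M.trace = a + b) (hd : M.det = a * b) :
    ∃ v : Fin 2 → F, v ≠ 0 ∧ M.mulVec v = a • v := by
  classical
  have h1 : (M - a • (1 : Mat F)).det = 0 := by
    rw [Matrix.trace_fin_two] at ht
    rw [Matrix.det_fin_two] at hd ⊢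
    simp
    linear_combination hd - a * ht
  obtain ⟨v, hv, h2⟩ := Matrix.exists_mulVec_eq_zero_iff.mpr h1
  refine ⟨v, hv, ?_⟩
  rw [Matrix.sub_mulVec, Matrix.smul_mulVec, Matrix.one_mulVec, sub_eq_zero] at h2
  exact h2

variable (K) in
theorem exists_ell_of_no_eigen {M : Mat F}
    (h : ∀ (c : F) (v : Fin 2 → F), v ≠ 0 → M.mulVec v ≠ c • v) :
    ∃ z : K, z ^ q ≠ z ∧ M.trace = Algebra.trace F K z ∧ M.det = Algebra.norm F z := by
  rcases trichotomy K M.trace M.det with ⟨a, h1, h2⟩ | ⟨a, b, -, h1, h2⟩ | h1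
  · obtain ⟨v, hv, h3⟩ := exists_eigen h1 h2
    exact absurd h3 (h a v hv)
  · obtain ⟨v, hv, h3⟩ := exists_eigen h1 h2
    exact absurd h3 (h a v hv)
  · exact h1

theorem no_eigen_of_ell {M : Mat F} {z : K} (hz : z ^ q ≠ z) (ht : M.trace = Algebra.trace F K z)
    (hd : M.det = Algebra.norm F z) (c : F) (v : Fin 2 → F) (hv : v ≠ 0) : M.mulVec v ≠ c • v := by
  classical
  intro h
  have h1 : (M - c • (1 : Mat F)).det = 0 := by
    apply Matrix.exists_mulVec_eq_zero_iff.mp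
    refine ⟨v, hv, ?_⟩
    rw [Matrix.sub_mulVec, Matrix.smul_mulVec, Matrix.one_mulVec, sub_eq_zero, h]
  refine not_split hz (a := c) (b := M.trace - c) (by rw [← ht]; ring) ?_
  rw [← hd, Matrix.trace_fin_two]
  rw [Matrix.det_fin_two] at h1 ⊢
  simp at h1
  linear_combination h1

end Cfsg.Agent.GL2Char
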